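import Groth.Agent.L21.Extend.Semilocal
import Groth.Agent.L21.Extend.Split
import Groth.Prelude.Def_ParaF
import Groth.Prelude.Def_FEt

/-! Parafactorial pairs through free generators and supported modules. -/

set_option autoImplicit false
set_option linter.style.haveILetI false
universe u

open CategoryTheory AlgebraicGeometry TopologicalSpace Opposite

noncomputable section

namespace Groth.L14.ParaF

open Groth.L21.Extend

variable {X Y : Scheme.{u}}

/-- Restriction from `a` to `b` is bijective. -/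
def Bij (M : X.Modules) (a b : X.Opens) : Prop := ∃ h : b ≤ a, Function.Bijective (rs M h)

theorem Bij.congr {M : X.Modules} {a b a' b' : X.Opens} (h : Bij M a b) (ha : a = a') (hb : b = b') :
    Bij M a' b' := ha ▸ hb ▸ h

theorem bij_self (M : X.Modules) (a : X.Opens) : Bij M a a :=
  ⟨le_rfl, by simpa only [Function.Bijective, rs_self, Function.Injective, Function.Surjective] using
    ⟨fun _ _ h => h, fun x => ⟨x, rfl⟩⟩⟩

theorem Bij.comp {M : X.Modules} {a b c : X.Opens} (h₁ : Bij M a b) (h₂ : Bij M b c) : Bij M a c := by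
  obtain ⟨h, hb⟩ := h₁
  obtain ⟨h', hb'⟩ := h₂
  refine ⟨h'.trans h, ?_⟩
  have := hb'.comp hb
  rwa [show (fun s => rs M h' s) ∘ (fun s => rs M h s) = fun s => rs M (h'.trans h) s from
    funext fun s => rs_rs M h' h s] at this

theorem Bij.of_comp {M : X.Modules} {a b c : X.Opens} (hba : b ≤ a) (h₂ : Bij M b c) (h₃ : Bij M a c) :
    Bij M a b := by
  obtain ⟨h', hb'⟩ := h₂
  obtain ⟨h'', hb''⟩ := h₃
  refine ⟨hba, (Function.Bijective.of_comp_iff' hb' _).mp ?_⟩
  rwa [show (fun s => rs M h' s) ∘ (fun s => rs M hba s) = fun s => rs M h'' s from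
    funext fun s => rs_rs M h' hba s]

theorem supportedOn_iff (M : X.Modules) (U : X.Opens) : SupportedOn M U ↔ ∀ V, Bij M V (V ⊓ U) :=
  ⟨fun h V => ⟨inf_le_left, h V⟩, fun h V => (h V).2⟩

theorem bij_of_le {M : X.Modules} {U : X.Opens} (h : ∀ V, Bij M V (V ⊓ U)) {a b : X.Opens} (hba : b ≤ a)
    (hU : a ⊓ U ≤ b) : Bij M a b :=
  Bij.of_comp hba ((h b).congr rfl (le_antisymm (inf_le_inf_right U hba) (le_inf hU inf_le_right))) (h a)

theorem supportedOn_of_iso {M N : X.Modules} (φ : M ≅ N) {U : X.Opens} (h : SupportedOn M U) :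
    SupportedOn N U := by
  intro V
  have hb : ∀ W, Function.Bijective (φ.hom.app W) := fun W => ConcreteCategory.bijective_of_isIso (φ.hom.app W)
  refine (Function.Bijective.of_comp_iff _ (hb V)).mp ?_
  rw [show (fun s => rs N (inf_le_left : V ⊓ U ≤ V) s) ∘ φ.hom.app V =
    φ.hom.app (V ⊓ U) ∘ fun s => rs M inf_le_left s from funext fun s => (rs_app φ.hom inf_le_left s).symm]
  exact (hb _).comp (h V)

theorem genOn_of_iso {M N : X.Modules} (φ : M ≅ N) {U : X.Opens} (h : GenOn M U) : GenOn N U := by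
  intro y hy
  obtain ⟨O, hyO, hOU, e, he⟩ := h y hy
  refine ⟨O, hyO, hOU, φ.hom.app O e, fun V hV => ?_⟩
  rw [show (fun a : Γ(X, V) => a • rs N hV (φ.hom.app O e)) = φ.hom.app V ∘ fun a => a • rs M hV e from
    funext fun a => by rw [Function.comp_apply, ← rs_app, Scheme.Modules.Hom.app_smul]]
  exact (ConcreteCategory.bijective_of_isIso (φ.hom.app V)).comp (he V hV)

theorem isInvertible_iff {M : X.Modules} : PicF.IsInvertible M ↔ GenOn M ⊤ := by
  refine ⟨fun h y _ => ?_, fun h y => ?_⟩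
  · obtain ⟨U, hyU, ⟨φ⟩⟩ := h y
    obtain ⟨e, he⟩ := exists_gen_of_iso M φ
    exact ⟨U, hyU, le_top, e, he⟩
  · obtain ⟨O, hyO, -, e, he⟩ := h y trivial
    exact ⟨O, hyO, exists_iso_of_isGen M he⟩

theorem genOn_mono {M : X.Modules} {U U' : X.Opens} (h : GenOn M U) (hle : U' ≤ U) : GenOn M U' := by
  intro y hy
  obtain ⟨O, hyO, -, e, he⟩ := h y (hle hy)
  exact ⟨O ⊓ U', ⟨hyO, hy⟩, inf_le_right, _, he.restrict M inf_le_left⟩

theorem image_inf_preimage (j : Y ⟶ X) [IsOpenImmersion j] (V : Y.Opens) (U : X.Opens) :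
    j ''ᵁ (V ⊓ j ⁻¹ᵁ U) = j ''ᵁ V ⊓ U := by
  ext x
  constructor
  · rintro ⟨y, ⟨hy, hyU⟩, rfl⟩; exact ⟨⟨y, hy, rfl⟩, hyU⟩
  · rintro ⟨⟨y, hy, rfl⟩, hyU⟩; exact ⟨y, ⟨hy, hyU⟩, rfl⟩

theorem supportedOn_restrict (j : Y ⟶ X) [IsOpenImmersion j] {M : X.Modules} {U : X.Opens}
    (h : SupportedOn M U) : SupportedOn (M.restrict j) (j ⁻¹ᵁ U) := by
  intro V
  exact (Bij.congr ((supportedOn_iff M U).mp h (j ''ᵁ V)) rfl (image_inf_preimage j V U).symm).2

theorem genOn_restrict (j : Y ⟶ X) [IsOpenImmersion j] {M : X.Modules} {U : X.Opens}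
    (h : GenOn M U) : GenOn (M.restrict j) (j ⁻¹ᵁ U) := by
  intro y hy
  obtain ⟨O, hyO, hOU, e, he⟩ := h (j y) hy
  have hle : j ''ᵁ (j ⁻¹ᵁ O) ≤ O := j.image_preimage_le O
  refine ⟨j ⁻¹ᵁ O, hyO, j.preimage_mono hOU, rs M hle e, fun V hV => ?_⟩
  have hV' : j ''ᵁ V ≤ O := (j.image_mono hV).trans hle
  have h1 := (he (j ''ᵁ V) hV').comp (ConcreteCategory.bijective_of_isIso (j.appIso V).inv)
  have key : ∀ a : Γ(Y, V), (show Γ(M, j ''ᵁ V) from a • rs (M.restrict j) hV (rs M hle e)) =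
      (j.appIso V).inv a • rs M hV' e := by
    intro a
    show (j.appIso V).inv a • rs M (j.image_mono hV) (rs M hle e) = _
    rw [rs_rs]
  exact ⟨fun a b hab => h1.1 ((key a).symm.trans (hab.trans (key b))),
    fun s => (h1.2 s).imp fun a ha => (key a).trans ha⟩

theorem genOn_of_restrict (j : Y ⟶ X) [IsOpenImmersion j] {M : X.Modules} {U' : Y.Opens}
    (h : GenOn (M.restrict j) U') : GenOn M (j ''ᵁ U') := by
  rintro x ⟨y, hy, rfl⟩
  obtain ⟨G, hyG, hGU, g, hg⟩ := h y hy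
  exact ⟨j ''ᵁ G, ⟨y, hyG, rfl⟩, j.image_mono hGU, g, exists_isGen_image j hg⟩

theorem supportedOn_push (j : Y ⟶ X) [IsOpenImmersion j] {L : Y.Modules} {U' : Y.Opens}
    (h : SupportedOn L U') : SupportedOn ((Scheme.Modules.pushforward j).obj L) (j ''ᵁ U') := by
  intro V
  have he : j ⁻¹ᵁ (V ⊓ j ''ᵁ U') = j ⁻¹ᵁ V ⊓ U' := by
    show j ⁻¹ᵁ V ⊓ j ⁻¹ᵁ (j ''ᵁ U') = _
    rw [j.preimage_image_eq]
  exact (Bij.congr ((supportedOn_iff L U').mp h (j ⁻¹ᵁ V)) rfl he.symm).2

theorem supportedOn_top (M : X.Modules) : SupportedOn M ⊤ :=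
  (supportedOn_iff M ⊤).mpr fun V => (bij_self M V).congr rfl (inf_top_eq V).symm

theorem genOn_push (j : Y ⟶ X) [IsOpenImmersion j] {L : Y.Modules} {U' : Y.Opens}
    (h : GenOn L U') : GenOn ((Scheme.Modules.pushforward j).obj L) (j ''ᵁ U') :=
  genOn_of_restrict j (genOn_of_iso ((Scheme.Modules.restrictFunctorAdjCounitIso j).app L).symm h)

/-- A module which is locally supported on `U` is supported on `U`. -/
theorem supportedOn_of_locally {M : X.Modules} {U : X.Opens}
    (h : ∀ y : X, ∃ O : X.Opens, y ∈ O ∧ ∀ V ≤ O, Bij M V (V ⊓ U)) : SupportedOn M U := by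
  choose O hyO hb using h
  have hinj : ∀ (V : X.Opens) (s t : Γ(M, V)),
      rs M (inf_le_left : V ⊓ U ≤ V) s = rs M inf_le_left t → s = t := by
    intro V s t hst
    refine eq_of_locally M s t fun y hy => ⟨V ⊓ O y, inf_le_left, ⟨hy, hyO y⟩, ?_⟩
    obtain ⟨hle, hbij⟩ := hb y (V ⊓ O y) inf_le_right
    refine hbij.1 ?_
    have := congrArg (rs M (inf_le_inf_right U inf_le_left : (V ⊓ O y) ⊓ U ≤ V ⊓ U)) hst
    simp only [rs_rs] at this ⊢
    exact this
  intro V
  refine ⟨fun s t => hinj V s t, fun r => ?_⟩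
  let N : V → X.Opens := fun y => V ⊓ O y.1
  choose t ht using fun y : V => (hb y.1 (N y) inf_le_right).2.2
    (rs M (inf_le_inf_right U inf_le_left : N y ⊓ U ≤ V ⊓ U) r)
  obtain ⟨s, hs⟩ := exists_glue M N V (fun y => inf_le_left) (fun y hy => ⟨⟨y, hy⟩, hy, hyO y⟩) t fun i k => by
    apply hinj
    have h1 := congrArg (rs M (inf_le_inf_right U inf_le_left : (N i ⊓ N k) ⊓ U ≤ N i ⊓ U)) (ht i)
    have h2 := congrArg (rs M (inf_le_inf_right U inf_le_right : (N i ⊓ N k) ⊓ U ≤ N k ⊓ U)) (ht k)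
    simp only [rs_rs] at h1 h2 ⊢
    exact h1.trans h2.symm
  refine ⟨s, eq_of_locally M _ _ fun y hy => ⟨N ⟨y, hy.1⟩ ⊓ U, inf_le_inf_right U inf_le_left,
    ⟨⟨hy.1, hyO y⟩, hy.2⟩, ?_⟩⟩
  have h1 := ht ⟨y, hy.1⟩
  rw [← hs ⟨y, hy.1⟩] at h1
  simp only [rs_rs] at h1 ⊢
  exact h1

theorem supportedOn_of_cover {ι : Type*} (W : ι → X.Opens) (hW : ⨆ i, W i = ⊤) {M : X.Modules}
    {U : X.Opens} (h : ∀ i, SupportedOn (M.restrict (W i).ι) ((W i).ι ⁻¹ᵁ U)) : SupportedOn M U := by
  refine supportedOn_of_locally fun y => ?_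
  obtain ⟨i, hi⟩ := Opens.mem_iSup.mp (hW.symm ▸ Opens.mem_top y : y ∈ ⨆ i, W i)
  refine ⟨W i, hi, fun V hV => ?_⟩
  have hV' : (W i).ι ''ᵁ ((W i).ι ⁻¹ᵁ V) = V := Groth.L21.Mod.image_preimage_of_le hV
  have := (supportedOn_iff _ _).mp (h i) ((W i).ι ⁻¹ᵁ V)
  obtain ⟨hle, hb⟩ := this
  have h2 : Bij M ((W i).ι ''ᵁ ((W i).ι ⁻¹ᵁ V)) ((W i).ι ''ᵁ ((W i).ι ⁻¹ᵁ V ⊓ (W i).ι ⁻¹ᵁ U)) :=
    ⟨(W i).ι.image_mono hle, hb⟩
  exact h2.congr hV' (by rw [image_inf_preimage, hV'])

/-- On a locally free rank one piece, sections extend as functions do. -/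
theorem bij_of_isGen {M : X.Modules} {U O V : X.Opens} (hO : SupportedOn (Coh.structureModule X) U)
    {e : Γ(M, O)} (he : IsGen M O e) (hV : V ≤ O) : Bij M V (V ⊓ U) := by
  refine ⟨inf_le_left, (Function.Bijective.of_comp_iff _ (he V hV)).mp ?_⟩
  have hb : Function.Bijective (rO X (inf_le_left : V ⊓ U ≤ V)) := hO V
  rw [show ((fun s => rs M (inf_le_left : V ⊓ U ≤ V) s) ∘ fun a : Γ(X, V) => a • rs M hV e) =
    (fun b : Γ(X, V ⊓ U) => b • rs M (inf_le_left.trans hV) e) ∘ rO X inf_le_left from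
      funext fun a => by simp only [Function.comp_apply, rs_smul, rs_rs]]
  exact (he _ _).comp hb

theorem supportedOn_of_isInvertible {M : X.Modules} {U : X.Opens}
    (hO : SupportedOn (Coh.structureModule X) U) (hM : PicF.IsInvertible M) : SupportedOn M U := by
  refine supportedOn_of_locally fun y => ?_
  obtain ⟨O, hyO, -, e, he⟩ := isInvertible_iff.mp hM y trivial
  exact ⟨O, hyO, fun V hV => bij_of_isGen hO he hV⟩

theorem isIso_unit (j : Y ⟶ X) [IsOpenImmersion j] {M : X.Modules} (h : SupportedOn M j.opensRange) :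
    IsIso ((Scheme.Modules.restrictAdjunction j).unit.app M) := by
  rw [Scheme.Modules.Hom.isIso_iff_isIso_app]
  intro V
  rw [ConcreteCategory.isIso_iff_bijective, Scheme.Modules.restrictAdjunction_unit_app_app]
  exact (((supportedOn_iff M _).mp h V).congr rfl
    (by rw [j.image_preimage_eq_opensRange_inf, inf_comm])).2

/-- The homomorphism out of the structure sheaf given by a global section. -/
theorem exists_hom_one (M : X.Modules) (s : Γ(M, ⊤)) :
    ∃ f : Coh.structureModule X ⟶ M, f.app ⊤ (show Γ(X, ⊤) from 1) = s := by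
  let σ : SheafOfModules.sections M :=
    PresheafOfModules.sectionsMk (M := M.val) (fun V => rs M le_top s) fun {V W} f => rs_rs M f.unop.le le_top s
  refine ⟨(SheafOfModules.unitHomEquiv M).symm σ, ?_⟩
  show (1 : Γ(X, ⊤)) • rs M le_top s = s
  rw [one_smul, rs_self]

theorem hom_ext_one {M : X.Modules} (f g : Coh.structureModule X ⟶ M)
    (h : f.app ⊤ (show Γ(X, ⊤) from 1) = g.app ⊤ (show Γ(X, ⊤) from 1)) : f = g := by
  apply Scheme.Modules.hom_ext
  intro V
  apply ConcreteCategory.hom_ext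
  intro r
  have h1 : ∀ φ : Coh.structureModule X ⟶ M, φ.app V r =
      (show Γ(X, V) from r) • rs M le_top (φ.app ⊤ (show Γ(X, ⊤) from 1)) := by
    intro φ
    rw [← rs_app, show rs (Coh.structureModule X) (le_top : V ≤ ⊤) (show Γ(X, ⊤) from 1) = (show Γ(X, V) from 1)
      from map_one (X.presheaf.map (homOfLE le_top).op).hom, ← φ.app_smul]
    congr 1
    exact (mul_one (show Γ(X, V) from r)).symm
  rw [h1 f, h1 g, h]

theorem bij_top_of_invRestrictEquiv (j : Y ⟶ X) [IsOpenImmersion j] (h : ParaF.InvRestrictEquiv j) :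
    Bij (Coh.structureModule X) ⊤ j.opensRange := by
  let O := Coh.structureModule X
  let adj := Scheme.Modules.restrictAdjunction j
  let η := adj.unit.app O
  have hO := isInvertible_structureModule X
  have hb : Function.Bijective fun φ : O ⟶ O => φ ≫ η := by
    rw [show (fun φ : O ⟶ O => φ ≫ η) = (adj.homEquiv O _) ∘
      (fun φ : O ⟶ O => (Scheme.Modules.restrictFunctor j).map φ) from funext fun φ => by
        rw [Function.comp_apply, Adjunction.homEquiv_unit]
        exact adj.unit.naturality φ]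
    exact (adj.homEquiv O _).bijective.comp (h.1 O O hO hO)
  have hη : Function.Bijective (η.app ⊤) := by
    refine ⟨fun s t hst => ?_, fun r => ?_⟩
    · obtain ⟨f, rfl⟩ := exists_hom_one O s
      obtain ⟨g, rfl⟩ := exists_hom_one O t
      rw [hb.1 (show f ≫ η = g ≫ η from hom_ext_one _ _ hst)]
    · obtain ⟨f, rfl⟩ := exists_hom_one _ r
      obtain ⟨g, rfl⟩ := hb.2 f
      exact ⟨g.app ⊤ (show Γ(X, ⊤) from 1), rfl⟩
  rw [show η.app ⊤ = _ from Scheme.Modules.restrictAdjunction_unit_app_app j O ⊤] at hη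
  exact Bij.congr ⟨_, hη⟩ rfl (by rw [j.image_preimage_eq_opensRange_inf, inf_top_eq])

theorem restrict_hom_bijective (j : Y ⟶ X) [IsOpenImmersion j]
    (hO : SupportedOn (Coh.structureModule X) j.opensRange) (L L' : X.Modules)
    (hL' : PicF.IsInvertible L') :
    Function.Bijective (fun φ : L ⟶ L' => (Scheme.Modules.restrictFunctor j).map φ) := by
  let adj := Scheme.Modules.restrictAdjunction j
  haveI := isIso_unit j (supportedOn_of_isInvertible hO hL')
  rw [show (fun φ : L ⟶ L' => (Scheme.Modules.restrictFunctor j).map φ) =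
    (adj.homEquiv L _).symm ∘ fun φ : L ⟶ L' => φ ≫ adj.unit.app L' from funext fun φ => by
      rw [Function.comp_apply, Adjunction.homEquiv_counit, Functor.map_comp, Category.assoc,
        adj.left_triangle_components]
      exact (Category.comp_id _).symm]
  exact (adj.homEquiv L _).symm.bijective.comp
    ⟨fun a b hab => (cancel_mono (adj.unit.app L')).mp hab, fun b => ⟨b ≫ inv (adj.unit.app L'), by simp⟩⟩

theorem invRestrictEquiv_of (j : Y ⟶ X) [IsOpenImmersion j]
    (hO : SupportedOn (Coh.structureModule X) j.opensRange)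
    (hP : ∀ L : Y.Modules, PicF.IsInvertible L → PicF.IsInvertible ((Scheme.Modules.pushforward j).obj L)) :
    ParaF.InvRestrictEquiv j :=
  ⟨fun L L' _ hL' => restrict_hom_bijective j hO L L' hL',
    fun L₀ hL₀ => ⟨_, hP L₀ hL₀, ⟨(Scheme.Modules.restrictFunctorAdjCounitIso j).app L₀⟩⟩⟩

theorem push_invertible_of_invRestrictEquiv (j : Y ⟶ X) [IsOpenImmersion j]
    (hO : SupportedOn (Coh.structureModule X) j.opensRange) (h : ParaF.InvRestrictEquiv j)
    (L₀ : Y.Modules) (hL₀ : PicF.IsInvertible L₀) :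
    PicF.IsInvertible ((Scheme.Modules.pushforward j).obj L₀) := by
  obtain ⟨L, hL, ⟨φ⟩⟩ := h.2 L₀ hL₀
  haveI := isIso_unit j (supportedOn_of_isInvertible hO hL)
  exact isInvertible_iff.mpr (genOn_of_iso (asIso ((Scheme.Modules.restrictAdjunction j).unit.app L) ≪≫
    (Scheme.Modules.pushforward j).mapIso φ) (isInvertible_iff.mp hL))

theorem supportedOn_structureModule_restrict (j : Y ⟶ X) [IsOpenImmersion j] {U : X.Opens}
    (h : SupportedOn (Coh.structureModule X) U) : SupportedOn (Coh.structureModule Y) (j ⁻¹ᵁ U) :=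
  supportedOn_of_iso (Scheme.Modules.restrictUnitIso j) (supportedOn_restrict j h)

theorem opensRange_homOfLE {A B : X.Opens} (h : A ≤ B) : (X.homOfLE h).opensRange = B.ι ⁻¹ᵁ A :=
  Scheme.opensRange_homOfLE h

/-- Extension property for invertible modules. -/
def Ext (X : Scheme.{u}) (U : X.Opens) : Prop :=
  ∀ (V : X.Opens) (M : X.Modules), SupportedOn M (V ⊓ U) → GenOn M (V ⊓ U) → GenOn M V

theorem range_eq (V U : X.Opens) : V.ι ⁻¹ᵁ (V ⊓ U) = V.ι ⁻¹ᵁ U :=
  Opens.ext (Set.ext fun z => ⟨fun h => h.2, fun h => ⟨z.2, h⟩⟩)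

theorem ext_of_push {U : X.Opens}
    (hP : ∀ (V : X.Opens) (L : ((V ⊓ U : X.Opens) : Scheme.{u}).Modules), PicF.IsInvertible L →
      PicF.IsInvertible ((Scheme.Modules.pushforward (X.homOfLE (inf_le_left : V ⊓ U ≤ V))).obj L)) :
    Ext X U := by
  intro V M hs hg
  let k := X.homOfLE (inf_le_left : V ⊓ U ≤ V)
  have hr : k.opensRange = V.ι ⁻¹ᵁ (V ⊓ U) := opensRange_homOfLE _
  have hs' : SupportedOn (M.restrict V.ι) k.opensRange := hr ▸ supportedOn_restrict V.ι hs
  haveI := isIso_unit k hs'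
  have hg' : GenOn (M.restrict V.ι) k.opensRange := hr ▸ genOn_restrict V.ι hg
  have hinv : PicF.IsInvertible ((M.restrict V.ι).restrict k) := by
    refine isInvertible_iff.mpr ?_
    have := genOn_restrict k hg'
    rwa [show k ⁻¹ᵁ k.opensRange = ⊤ from Opens.ext (Set.ext fun z => ⟨fun _ => trivial, fun _ => ⟨z, rfl⟩⟩)] at this
  have h1 := genOn_of_iso (asIso ((Scheme.Modules.restrictAdjunction k).unit.app (M.restrict V.ι))).symm
    (isInvertible_iff.mp (hP V _ hinv))
  have := genOn_of_restrict V.ι h1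
  rwa [V.ι_image_top] at this

theorem push_of_ext {U : X.Opens} (h : Ext X U) (V : X.Opens) (L : ((V ⊓ U : X.Opens) : Scheme.{u}).Modules)
    (hL : PicF.IsInvertible L) :
    PicF.IsInvertible ((Scheme.Modules.pushforward (X.homOfLE (inf_le_left : V ⊓ U ≤ V))).obj L) := by
  let k := X.homOfLE (inf_le_left : V ⊓ U ≤ V)
  let M := (Scheme.Modules.pushforward (V ⊓ U).ι).obj L
  have hs : SupportedOn M (V ⊓ U) := supportedOn_pushforward le_rfl L
  have hg : GenOn M (V ⊓ U) := genOn_pushforward L hL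
  have hr : k.opensRange = V.ι ⁻¹ᵁ (V ⊓ U) := opensRange_homOfLE _
  haveI := isIso_unit k (hr ▸ supportedOn_restrict V.ι hs : SupportedOn (M.restrict V.ι) k.opensRange)
  let φ : (M.restrict V.ι).restrict k ≅ L :=
    (Scheme.Modules.restrictFunctorComp k V.ι).symm.app M ≪≫
      (Scheme.Modules.restrictFunctorCongr (X.homOfLE_ι inf_le_left)).app M ≪≫
      (Scheme.Modules.restrictFunctorAdjCounitIso (V ⊓ U).ι).app L
  have h1 := genOn_restrict V.ι (h V M hs hg)
  rw [Scheme.Opens.ι_preimage_self] at h1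
  exact isInvertible_iff.mpr (genOn_of_iso
    (asIso ((Scheme.Modules.restrictAdjunction k).unit.app (M.restrict V.ι)) ≪≫
      (Scheme.Modules.pushforward k).mapIso φ) h1)

theorem supportedOn_range (V U : X.Opens) (hO : SupportedOn (Coh.structureModule X) U) :
    SupportedOn (Coh.structureModule (V : Scheme.{u})) (X.homOfLE (inf_le_left : V ⊓ U ≤ V)).opensRange := by
  have := supportedOn_structureModule_restrict V.ι hO
  rwa [← range_eq, ← opensRange_homOfLE (inf_le_left : V ⊓ U ≤ V)] at this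

theorem pair_iff (Z : Closeds X) :
    ParaF.IsParafactorialPair X Z ↔ SupportedOn (Coh.structureModule X) Z.compl ∧ Ext X Z.compl := by
  constructor
  · intro h
    have hO : SupportedOn (Coh.structureModule X) Z.compl := by
      refine (supportedOn_iff _ _).mpr fun V => ?_
      obtain ⟨hle, hb⟩ := bij_top_of_invRestrictEquiv (X.homOfLE (inf_le_left : V ⊓ Z.compl ≤ V)) (h V)
      have h2 : Bij (Coh.structureModule X) (V.ι ''ᵁ ⊤)
          (V.ι ''ᵁ (X.homOfLE (inf_le_left : V ⊓ Z.compl ≤ V)).opensRange) := ⟨V.ι.image_mono hle, hb⟩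
      exact h2.congr V.ι_image_top (by rw [opensRange_homOfLE]; exact Groth.L21.Mod.image_preimage_of_le inf_le_left)
    exact ⟨hO, ext_of_push fun V L hL =>
      push_invertible_of_invRestrictEquiv _ (supportedOn_range V _ hO) (h V) L hL⟩
  · rintro ⟨hO, hE⟩ V
    exact invRestrictEquiv_of _ (supportedOn_range V _ hO) (push_of_ext hE V)

theorem ext_open {U : X.Opens} (h : Ext X U) (W : X.Opens) : Ext (W : Scheme.{u}) (W.ι ⁻¹ᵁ U) := by
  intro V M hs hg
  have he : W.ι ''ᵁ (V ⊓ W.ι ⁻¹ᵁ U) = W.ι ''ᵁ V ⊓ U := image_inf_preimage _ _ _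
  have h1 := h (W.ι ''ᵁ V) ((Scheme.Modules.pushforward W.ι).obj M) (he ▸ supportedOn_push W.ι hs)
    (he ▸ genOn_push W.ι hg)
  have h2 := genOn_of_iso ((Scheme.Modules.restrictFunctorAdjCounitIso W.ι).app M) (genOn_restrict W.ι h1)
  rwa [W.ι.preimage_image_eq] at h2

theorem ext_cover {ι : Type*} (W : ι → X.Opens) (hW : ⨆ i, W i = ⊤) {U : X.Opens}
    (h : ∀ i, Ext (W i : Scheme.{u}) ((W i).ι ⁻¹ᵁ U)) : Ext X U := by
  intro V M hs hg x hx
  obtain ⟨i, hi⟩ := Opens.mem_iSup.mp (hW.symm ▸ Opens.mem_top x : x ∈ ⨆ i, W i)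
  have he : (W i).ι ⁻¹ᵁ (V ⊓ U) = (W i).ι ⁻¹ᵁ V ⊓ (W i).ι ⁻¹ᵁ U := Scheme.Hom.preimage_inf ..
  have hs' : SupportedOn (M.restrict (W i).ι) ((W i).ι ⁻¹ᵁ V ⊓ (W i).ι ⁻¹ᵁ U) := by
    rw [← he]; exact supportedOn_restrict (W i).ι hs
  have hg' : GenOn (M.restrict (W i).ι) ((W i).ι ⁻¹ᵁ V ⊓ (W i).ι ⁻¹ᵁ U) := by
    rw [← he]; exact genOn_restrict (W i).ι hg
  have h1 : GenOn (M.restrict (W i).ι) ((W i).ι ⁻¹ᵁ V) := h i _ _ hs' hg'
  obtain ⟨O, hxO, hOV, e, he⟩ := genOn_of_restrict (W i).ι h1 x ⟨⟨x, hi⟩, hx, rfl⟩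
  exact ⟨O, hxO, hOV.trans ((W i).ι.image_preimage_le V), e, he⟩

theorem ext_mono {U U' : X.Opens} (hle : U ≤ U') (hO : SupportedOn (Coh.structureModule X) U)
    (h : Ext X U) : Ext X U' := by
  intro V M hs hg
  have hle' : V ⊓ U ≤ V ⊓ U' := inf_le_inf_left V hle
  refine h V M ((supportedOn_iff _ _).mpr fun A => ?_) (genOn_mono hg hle')
  have h1 := (supportedOn_iff _ _).mp hs A
  refine h1.comp ?_
  have h2 : Bij M (A ⊓ (V ⊓ U')) (A ⊓ (V ⊓ U') ⊓ U) := by
    let k := (A ⊓ (V ⊓ U')).ι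
    have hinv : GenOn (M.restrict k) ⊤ := by
      have := genOn_restrict k hg
      rwa [show k ⁻¹ᵁ (V ⊓ U') = ⊤ from Opens.ext (Set.ext fun z => ⟨fun _ => trivial, fun _ => z.2.2⟩)] at this
    have hsup := supportedOn_of_isInvertible (supportedOn_structureModule_restrict k hO) (isInvertible_iff.mpr hinv)
    obtain ⟨hle₂, hb₂⟩ := (supportedOn_iff _ _).mp hsup ⊤
    have h3 : Bij M (k ''ᵁ ⊤) (k ''ᵁ (⊤ ⊓ k ⁻¹ᵁ U)) := ⟨k.image_mono hle₂, hb₂⟩
    exact h3.congr (Scheme.Opens.ι_image_top _) (by rw [image_inf_preimage, Scheme.Opens.ι_image_top])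
  exact h2.congr rfl (le_antisymm (le_inf (inf_le_left.trans inf_le_left)
    (le_inf ((inf_le_left.trans inf_le_right).trans inf_le_left) inf_le_right))
    (le_inf (inf_le_inf_left A hle') (inf_le_right.trans inf_le_right)))

theorem closedsIn_compl (W : X.Opens) (Z : Closeds X) :
    (ParaF.closedsIn W Z).compl = W.ι ⁻¹ᵁ Z.compl :=
  Opens.ext rfl

theorem pair_local (Z : Closeds X) {ι : Type*} (W : ι → X.Opens) (hW : ⨆ i, W i = ⊤)
    (h : ∀ i, ParaF.IsParafactorialPair (W i : Scheme.{u}) (ParaF.closedsIn (W i) Z)) :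
    ParaF.IsParafactorialPair X Z := by
  have key : ∀ i, SupportedOn (Coh.structureModule (W i : Scheme.{u})) ((W i).ι ⁻¹ᵁ Z.compl) ∧
      Ext (W i : Scheme.{u}) ((W i).ι ⁻¹ᵁ Z.compl) := fun i => by
    rw [← closedsIn_compl]
    exact (pair_iff _).mp (h i)
  exact (pair_iff Z).mpr ⟨supportedOn_of_cover W hW fun i =>
    supportedOn_of_iso (Scheme.Modules.restrictUnitIso (W i).ι).symm (key i).1,
    ext_cover W hW fun i => (key i).2⟩

theorem pair_open (Z : Closeds X) (h : ParaF.IsParafactorialPair X Z) (W : X.Opens) :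
    ParaF.IsParafactorialPair (W : Scheme.{u}) (ParaF.closedsIn W Z) :=
  by
    refine (pair_iff (X := (W : Scheme.{u})) _).mpr ?_
    rw [closedsIn_compl]
    exact ⟨supportedOn_structureModule_restrict W.ι ((pair_iff Z).mp h).1,
      ext_open ((pair_iff Z).mp h).2 W⟩

theorem pair_mono (Z Z' : Closeds X) (hle : Z' ≤ Z) (h : ParaF.IsParafactorialPair X Z) :
    ParaF.IsParafactorialPair X Z' := by
  obtain ⟨hO, hE⟩ := (pair_iff Z).mp h
  have hUU : Z.compl ≤ Z'.compl := fun x hx hx' => hx (hle hx')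
  have hO' := (supportedOn_iff _ _).mp hO
  refine (pair_iff Z').mpr ⟨(supportedOn_iff _ _).mpr fun V => ?_, ext_mono hUU hO hE⟩
  exact bij_of_le hO' inf_le_left (inf_le_inf_left V hUU)

section Local

variable {A : Type u} [CommRing A] [IsLocalRing A]

theorem le_punctured (V : (Spec (CommRingCat.of A)).Opens) (hV : V ≠ ⊤) : V ≤ FEt.puncturedSpec A := by
  intro x hx he
  apply hV
  rw [Set.mem_singleton_iff] at he
  rw [he] at hx
  exact top_unique fun z _ => (IsLocalRing.specializes_closedPoint z).mem_open V.isOpen hx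

theorem isParafactorialLocalRing_iff' :
    ParaF.IsParafactorialLocalRing A ↔
      (Bij (Coh.structureModule (Spec (CommRingCat.of A))) ⊤ (FEt.puncturedSpec A) ∧
        ParaF.PicTrivial (FEt.puncturedSpec A : Scheme.{u})) := by
  let U := FEt.puncturedSpec A
  refine Iff.trans (pair_iff (X := Spec (CommRingCat.of A)) ⟨{IsLocalRing.closedPoint A}, _⟩) ?_
  show SupportedOn _ U ∧ Ext _ U ↔ _
  constructor
  · rintro ⟨hO, hE⟩
    refine ⟨((supportedOn_iff _ _).mp hO ⊤).congr rfl (top_inf_eq _), fun L hL => ?_⟩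
    let M := (Scheme.Modules.pushforward U.ι).obj L
    have hs : SupportedOn M U := supportedOn_pushforward le_rfl L
    have hg : GenOn M U := genOn_pushforward L hL
    obtain ⟨O, hxO, -, e, he⟩ := hE ⊤ M (by rwa [top_inf_eq]) (by rwa [top_inf_eq])
      (IsLocalRing.closedPoint A) trivial
    have hOtop : O = ⊤ := by
      by_contra hne
      exact le_punctured O hne hxO rfl
    obtain ⟨i⟩ := exists_iso_of_isGen M (he.restrict M (hOtop ▸ le_top : U ≤ O))
    exact ⟨((Scheme.Modules.restrictFunctorAdjCounitIso U.ι).app L).symm ≪≫ i⟩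
  · rintro ⟨hb, hP⟩
    have hO : SupportedOn (Coh.structureModule (Spec (CommRingCat.of A))) U := by
      refine (supportedOn_iff _ _).mpr fun V => ?_
      by_cases hV : V = ⊤
      · subst hV; exact hb.congr rfl (top_inf_eq U).symm
      · exact (bij_self _ V).congr rfl (inf_eq_left.mpr (le_punctured V hV)).symm
    refine ⟨hO, fun V M hs hg => ?_⟩
    by_cases hV : V = ⊤
    swap
    · exact genOn_mono hg (le_inf le_rfl (le_punctured V hV))
    subst hV
    rw [top_inf_eq] at hs hg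
    have hinv : PicF.IsInvertible (M.restrict U.ι) := by
      refine isInvertible_iff.mpr ?_
      have := genOn_restrict U.ι hg
      rwa [Scheme.Opens.ι_preimage_self] at this
    obtain ⟨φ⟩ := hP _ hinv
    obtain ⟨e, he⟩ := exists_gen_of_iso M φ
    obtain ⟨e', he'⟩ := ((supportedOn_iff _ _).mp hs ⊤).congr rfl (top_inf_eq _) |>.2.2 e
    refine fun x _ => ⟨⊤, trivial, le_rfl, e', fun W hW => ?_⟩
    obtain ⟨h1, hb1⟩ := (supportedOn_iff _ _).mp hs W
    refine (Function.Bijective.of_comp_iff' hb1 _).mp ?_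
    have hbO : Function.Bijective (rO (Spec (CommRingCat.of A)) (inf_le_left : W ⊓ U ≤ W)) := hO W
    rw [show ((fun s => rs M h1 s) ∘ fun a : Γ(Spec (CommRingCat.of A), W) => a • rs M hW e') =
      (fun b : Γ(Spec (CommRingCat.of A), W ⊓ U) => b • rs M (inf_le_right : W ⊓ U ≤ U) e) ∘ rO (Spec (CommRingCat.of A)) inf_le_left from
        funext fun a => by simp only [Function.comp_apply, rs_smul, rs_rs, ← he']]
    exact (he _ _).comp hbO

end Local

end Groth.L14.ParaF
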