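import Groth.Agent.L14.ParaF.Criterion
import Groth.Agent.L04.Depth
import Mathlib.RingTheory.Ideal.MinimalPrime.Noetherian
import Mathlib.RingTheory.Localization.AtPrime.Basic

/-! Local rings of depth at least two which are factorial on the punctured spectrum. -/

set_option autoImplicit false
set_option linter.style.haveILetI false
universe u

open CategoryTheory AlgebraicGeometry TopologicalSpace Opposite

noncomputable section

namespace Groth.L14.ParaF

open Groth.L21.Extend

variable {A : Type u} [CommRing A] [IsLocalRing A] [IsNoetherianRing A]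

omit [IsLocalRing A] [IsNoetherianRing A] in
theorem pow_dvd_of_regular {x y : A} (hx : ∀ a, x * a = 0 → a = 0) (hy : ∀ a, x ∣ y * a → x ∣ a) :
    ∀ (m n : ℕ) (a : A), x ^ m ∣ y ^ n * a → x ^ m ∣ a := by
  have h1 : ∀ (m : ℕ) (a : A), x ^ m ∣ y * a → x ^ m ∣ a := by
    intro m
    induction m with
    | zero => intro a _; rw [pow_zero]; exact one_dvd a
    | succ m ih =>
      intro a h
      obtain ⟨c, rfl⟩ := hy a (dvd_trans (dvd_pow_self x m.succ_ne_zero) h)
      obtain ⟨b, hb⟩ := h
      have : x ^ m ∣ y * c := by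
        refine ⟨b, sub_eq_zero.mp (hx _ ?_)⟩
        linear_combination hb + b * (pow_succ x m)
      rw [pow_succ']
      exact mul_dvd_mul_left x (ih c this)
  intro m n
  induction n with
  | zero => intro a h; simpa using h
  | succ n ih => intro a h; exact h1 m a (ih (y * a) (by rwa [← mul_assoc, ← pow_succ]))

theorem exists_regular_pair (hd : (2 : ℕ∞) ≤ LocCoh.depth A A) :
    ∃ x y : A, x ∈ IsLocalRing.maximalIdeal A ∧ y ∈ IsLocalRing.maximalIdeal A ∧
      (∀ a, x * a = 0 → a = 0) ∧ ∀ a, x ∣ y * a → x ∣ a := by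
  have hne : (IsLocalRing.maximalIdeal A) • (⊤ : Submodule A A) ≠ ⊤ := by
    rw [Ideal.smul_eq_mul, Ideal.mul_top]
    exact (IsLocalRing.maximalIdeal.isMaximal A).ne_top
  obtain ⟨rs, hlen, hreg, hmem⟩ := Groth.L04.exists_of_le_idealDepth hne (n := 2) (by exact_mod_cast hd)
  match rs, hlen with
  | [x, y], _ =>
    rw [RingTheory.Sequence.isWeaklyRegular_cons_iff, RingTheory.Sequence.isWeaklyRegular_singleton_iff] at hreg
    refine ⟨x, y, hmem x (by simp), hmem y (by simp), fun a ha => hreg.1.right_eq_zero_of_smul ha, fun a ha => ?_⟩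
    obtain ⟨c, hc⟩ := ha
    have h1 : y • (Submodule.Quotient.mk a : QuotSMulTop x A) = 0 := by
      rw [← Submodule.Quotient.mk_smul, Submodule.Quotient.mk_eq_zero, smul_eq_mul, hc]
      exact (Submodule.mem_smul_pointwise_iff_exists _ _ _).mpr ⟨c, trivial, rfl⟩
    have h2 := hreg.2.right_eq_zero_of_smul h1
    rw [Submodule.Quotient.mk_eq_zero] at h2
    obtain ⟨d, -, hd⟩ := (Submodule.mem_smul_pointwise_iff_exists _ _ _).mp h2
    exact ⟨d, hd.symm⟩

theorem exists_maximal_pow_le (I : Ideal A)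
    (h : ∀ q : Ideal A, q.IsPrime → q ≠ IsLocalRing.maximalIdeal A → ¬ I ≤ q) :
    ∃ n : ℕ, IsLocalRing.maximalIdeal A ^ n ≤ I := by
  by_cases htop : I = ⊤
  · exact ⟨0, htop ▸ le_top⟩
  refine Ideal.exists_pow_le_of_le_radical_of_fg ?_ (IsNoetherian.noetherian _)
  rw [Ideal.radical_eq_sInf]
  refine le_sInf fun q ⟨hle, hq⟩ => ?_
  by_contra hne
  exact h q hq (fun he => hne (he ▸ le_rfl)) hle

theorem isDomain_of_depth_two (hd : (2 : ℕ∞) ≤ LocCoh.depth A A)
    (hloc : ∀ q : Ideal A, [q.IsPrime] → q ≠ IsLocalRing.maximalIdeal A → IsDomain (Localization.AtPrime q)) :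
    IsDomain A := by
  classical
  obtain ⟨x, y, hxm, hym, hx, hy⟩ := exists_regular_pair hd
  have hred : ∀ a : A, IsNilpotent a → a = 0 := by
    intro a ha
    let ann : Ideal A :=
      { carrier := {t | t * a = 0}
        zero_mem' := zero_mul a
        add_mem' := fun {s t} hs ht => show (s + t) * a = 0 by
          rw [add_mul, show s * a = 0 from hs, show t * a = 0 from ht, add_zero]
        smul_mem' := fun r t ht => show r * t * a = 0 by rw [mul_assoc, show t * a = 0 from ht, mul_zero] }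
    obtain ⟨n, hn⟩ := exists_maximal_pow_le ann fun q hq hne hle => by
      haveI := hloc q hne
      obtain ⟨t, ht⟩ := (IsLocalization.map_eq_zero_iff q.primeCompl (Localization.AtPrime q) a).mp
        (ha.map (algebraMap A (Localization.AtPrime q))).eq_zero
      exact t.2 (hle ht)
    have := hn (Ideal.pow_mem_pow hxm n)
    have hreg : ∀ (k : ℕ) (b : A), x ^ k * b = 0 → b = 0 := fun k => by
      induction k with
      | zero => intro b hb; simpa using hb
      | succ k ih => intro b hb; exact ih b (hx _ (by rw [← mul_assoc, ← pow_succ', hb]))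
    exact hreg n a this
  obtain ⟨p, hp⟩ := Ideal.nonempty_minimalPrimes (I := (⊥ : Ideal A)) bot_ne_top
  have hmin : ∀ p' ∈ (⊥ : Ideal A).minimalPrimes, p' = p := by
    by_contra hne
    push Not at hne
    obtain ⟨p₁, hp₁, hp₁p⟩ := hne
    let S := (Ideal.finite_minimalPrimes_of_isNoetherianRing A (⊥ : Ideal A)).toFinset.erase p
    let J : Ideal A := S.inf id
    haveI := hp.1.1
    have hmem : ∀ i ∈ S, i ∈ (⊥ : Ideal A).minimalPrimes ∧ i ≠ p := fun i hi => by
      simpa [S, and_comm] using hi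
    have hIJ : ∀ i ∈ p, ∀ j ∈ J, i * j = 0 := by
      intro i hi j hj
      refine hred _ (nilpotent_iff_mem_prime.mpr fun q hq => ?_)
      obtain ⟨p₂, hp₂, hle⟩ := Ideal.exists_minimalPrimes_le (bot_le : (⊥ : Ideal A) ≤ q)
      by_cases h2 : p₂ = p
      · exact Ideal.mul_mem_right _ _ (hle (h2 ▸ hi))
      · exact Ideal.mul_mem_left _ _ (hle ((Finset.inf_le (f := id) (show p₂ ∈ S by
          simp [S, hp₂, h2])) hj))
    obtain ⟨n, hn⟩ := exists_maximal_pow_le (p ⊔ J) fun q hq hne hle => by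
      haveI := hloc q hne
      let R := Localization.AtPrime q
      let q₀ : Ideal A := (⊥ : Ideal R).comap (algebraMap A R)
      haveI : q₀.IsPrime := Ideal.IsPrime.comap _
      have hkey : ∀ r ∈ (⊥ : Ideal A).minimalPrimes, r ≤ q → r = q₀ := by
        intro r hr hrq
        haveI := hr.1.1
        have h1 : q₀ ≤ r := by
          have hdis : Disjoint (q.primeCompl : Set A) (r : Set A) :=
            Set.disjoint_left.mpr fun z hz hzr => hz (hrq hzr)
          have := Ideal.comap_mono (f := algebraMap A R) (bot_le (a := r.map (algebraMap A R)))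
          exact this.trans (IsLocalization.comap_map_of_isPrime_disjoint q.primeCompl R hr.1.1 hdis).le
        exact le_antisymm (hr.2 ⟨inferInstance, bot_le⟩ h1) h1
      have h1 := hkey p hp (le_sup_left.trans hle)
      obtain ⟨p₂, hp₂S, hp₂q⟩ := (Ideal.IsPrime.inf_le' hq).mp (le_sup_right.trans hle : S.inf id ≤ q)
      exact (hmem p₂ hp₂S).2 ((hkey p₂ (hmem p₂ hp₂S).1 hp₂q).trans h1.symm)
    obtain ⟨i₁, hi₁, j₁, hj₁, e₁⟩ := Submodule.mem_sup.mp (hn (Ideal.pow_mem_pow hxm n))
    obtain ⟨i₂, hi₂, j₂, hj₂, e₂⟩ := Submodule.mem_sup.mp (hn (Ideal.pow_mem_pow hym n))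
    have h12 : y ^ n * i₁ = x ^ n * i₂ := by
      rw [← e₁, ← e₂]; linear_combination (hIJ i₁ hi₁ j₂ hj₂) - (hIJ i₂ hi₂ j₁ hj₁)
    obtain ⟨c, hc⟩ := pow_dvd_of_regular hx hy n n i₁ ⟨i₂, h12⟩
    have hreg : ∀ (k : ℕ) (b : A), x ^ k * b = 0 → b = 0 := fun k => by
      induction k with
      | zero => intro b hb; simpa using hb
      | succ k ih => intro b hb; exact ih b (hx _ (by rw [← mul_assoc, ← pow_succ', hb]))
    have hcc : c * c = c := by
      refine sub_eq_zero.mp (hreg n _ (hreg n _ ?_))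
      have : i₁ * i₁ = x ^ n * i₁ := by rw [← e₁]; linear_combination -(hIJ i₁ hi₁ j₁ hj₁)
      rw [hc] at this
      linear_combination this
    have hbig : ∀ q : Ideal A, q.IsPrime → IsLocalRing.maximalIdeal A ^ n ≤ q → q = IsLocalRing.maximalIdeal A :=
      fun q hq h => le_antisymm (IsLocalRing.le_maximalIdeal hq.ne_top) (hq.le_of_pow_le h)
    rcases IsLocalRing.isUnit_or_isUnit_one_sub_self c with hu | hu
    · have hc1 : c = 1 := hu.mul_left_cancel (by rw [mul_one, hcc])
      rw [hc1, mul_one] at hc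
      have hpn : IsLocalRing.maximalIdeal A ^ n ≤ p := by
        intro r hr
        obtain ⟨i, hi, j, hj, e⟩ := Submodule.mem_sup.mp (hn hr)
        have : j = 0 := hreg n j (by rw [← hc]; exact hIJ i₁ hi₁ j hj)
        rw [← e, this, add_zero]; exact hi
      have h1 := hbig p hp.1.1 hpn
      exact hp₁p (le_antisymm (h1 ▸ IsLocalRing.le_maximalIdeal hp₁.1.1.ne_top)
        (hp.2 ⟨hp₁.1.1, bot_le⟩ (h1 ▸ IsLocalRing.le_maximalIdeal hp₁.1.1.ne_top)))
    · have hc0 : c = 0 := hu.mul_left_cancel (by rw [mul_zero, sub_mul, one_mul, hcc, sub_self])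
      rw [hc0, mul_zero] at hc
      rw [hc, zero_add] at e₁
      have hJn : IsLocalRing.maximalIdeal A ^ n ≤ J := by
        intro r hr
        obtain ⟨i, hi, j, hj, e⟩ := Submodule.mem_sup.mp (hn hr)
        have : i = 0 := hreg n i (by rw [← e₁, mul_comm]; exact hIJ i hi j₁ hj₁)
        rw [← e, this, zero_add]; exact hj
      have hp₁S : p₁ ∈ S := by simp [S, hp₁, hp₁p]
      have h1 := hbig p₁ hp₁.1.1 (hJn.trans (Finset.inf_le (f := id) hp₁S))
      exact hp₁p (le_antisymm (hp₁.2 ⟨hp.1.1, bot_le⟩ (h1 ▸ IsLocalRing.le_maximalIdeal hp.1.1.ne_top))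
        (h1 ▸ IsLocalRing.le_maximalIdeal hp.1.1.ne_top))
  have hp0 : p = ⊥ := (Submodule.eq_bot_iff _).mpr fun a ha => hred a (nilpotent_iff_mem_prime.mpr fun q hq => by
    obtain ⟨p₂, hp₂, hle⟩ := Ideal.exists_minimalPrimes_le (bot_le : (⊥ : Ideal A) ≤ q)
    exact hle ((hmin p₂ hp₂).symm ▸ ha))
  haveI : (⊥ : Ideal A).IsPrime := hp0 ▸ hp.1.1
  exact IsDomain.of_bot_isPrime A

theorem isIntegrallyClosed_of_depth_two [IsDomain A] (hd : (2 : ℕ∞) ≤ LocCoh.depth A A)
    (hloc : ∀ q : Ideal A, [q.IsPrime] → q ≠ IsLocalRing.maximalIdeal A →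
      IsIntegrallyClosed (Localization.AtPrime q)) :
    IsIntegrallyClosed A := by
  obtain ⟨x, y, hxm, hym, hx, hy⟩ := exists_regular_pair hd
  let K := FractionRing A
  refine (isIntegrallyClosed_iff K).mpr fun {z} hz => ?_
  let den : Ideal A :=
    { carrier := {s | ∃ b, algebraMap A K s * z = algebraMap A K b}
      zero_mem' := ⟨0, by simp⟩
      add_mem' := fun {a b} ⟨c, hc⟩ ⟨d, hd⟩ => ⟨c + d, by rw [map_add, map_add, add_mul, hc, hd]⟩
      smul_mem' := fun r a ⟨c, hc⟩ => ⟨r * c, by rw [smul_eq_mul, map_mul, map_mul, mul_assoc, hc]⟩ }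
  obtain ⟨n, hn⟩ := exists_maximal_pow_le den fun q hq hne hle => by
    haveI := hloc q hne
    let R := Localization.AtPrime q
    have hqnd : q.primeCompl ≤ nonZeroDivisors A := q.primeCompl_le_nonZeroDivisors
    haveI : IsDomain R := IsLocalization.isDomain_localization hqnd
    let L := FractionRing R
    have hinjR : Function.Injective (algebraMap A R) := IsLocalization.injective R hqnd
    have hinj : Function.Injective (Algebra.ofId A L) := by
      show Function.Injective (algebraMap A L)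
      rw [IsScalarTower.algebraMap_eq A R L]
      exact (IsFractionRing.injective R L).comp hinjR
    let ψ : K →ₐ[A] L := IsFractionRing.liftAlgHom hinj
    obtain ⟨w, hw⟩ := IsIntegrallyClosed.isIntegral_iff.mp ((hz.map ψ).tower_top (A := R))
    obtain ⟨⟨a, s⟩, has⟩ := IsLocalization.surj q.primeCompl w
    refine s.2 (hle ⟨a, ψ.toRingHom.injective ?_⟩)
    show ψ (algebraMap A K s * z) = ψ (algebraMap A K a)
    rw [map_mul, ψ.commutes, ψ.commutes, ← hw, IsScalarTower.algebraMap_apply A R L,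
      IsScalarTower.algebraMap_apply A R L, ← has, map_mul, mul_comm]
  obtain ⟨a, ha⟩ := hn (Ideal.pow_mem_pow hxm n)
  obtain ⟨b, hb⟩ := hn (Ideal.pow_mem_pow hym n)
  have hab : y ^ n * a = x ^ n * b := IsFractionRing.injective A K (by
    rw [map_mul, map_mul, ← ha, ← hb]; ring)
  obtain ⟨c, hc⟩ := pow_dvd_of_regular hx hy n n a ⟨b, hab⟩
  have hx0 : algebraMap A K (x ^ n) ≠ 0 := fun h => by
    have h' : x ^ n = 0 := IsFractionRing.injective A K (h.trans (map_zero _).symm)
    exact one_ne_zero (hx 1 (by rw [eq_zero_of_pow_eq_zero h', zero_mul]))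
  exact ⟨c, mul_left_cancel₀ hx0 (by rw [← map_mul, ← hc, ha])⟩

theorem two_le_depth_of_ufd [IsDomain A] [UniqueFactorizationMonoid A]
    (hdim : (2 : WithBot ℕ∞) ≤ ringKrullDim A) : (2 : ℕ∞) ≤ LocCoh.depth A A := by
  have hm0 : IsLocalRing.maximalIdeal A ≠ ⊥ := fun h => maximalIdeal_not_principal hdim 0 (by rw [h]; simp)
  obtain ⟨x, hxm, hx⟩ := Ideal.IsPrime.exists_mem_prime_of_ne_bot (inferInstance : (IsLocalRing.maximalIdeal A).IsPrime) hm0
  obtain ⟨y, hym, hy⟩ := SetLike.not_le_iff_exists.mp (show ¬ IsLocalRing.maximalIdeal A ≤ Ideal.span {x} from fun h =>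
    maximalIdeal_not_principal hdim x (le_antisymm h ((Ideal.span_singleton_le_iff_mem _).mpr hxm)))
  have hreg : RingTheory.Sequence.IsWeaklyRegular A [x, y] := by
    rw [RingTheory.Sequence.isWeaklyRegular_cons_iff, RingTheory.Sequence.isWeaklyRegular_singleton_iff]
    refine ⟨(IsLeftRegular.isSMulRegular (isRegular_of_ne_zero hx.ne_zero).left), fun a b hab => ?_⟩
    obtain ⟨a, rfl⟩ := Submodule.Quotient.mk_surjective _ a
    obtain ⟨b, rfl⟩ := Submodule.Quotient.mk_surjective _ b
    change y • (Submodule.Quotient.mk a : QuotSMulTop x A) = y • Submodule.Quotient.mk b at hab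
    rw [← Submodule.Quotient.mk_smul, ← Submodule.Quotient.mk_smul, Submodule.Quotient.eq, smul_eq_mul,
      smul_eq_mul, ← mul_sub] at hab
    obtain ⟨d, -, hd⟩ := (Submodule.mem_smul_pointwise_iff_exists _ _ _).mp hab
    obtain ⟨e, he⟩ := (hx.dvd_or_dvd ⟨d, hd.symm⟩).resolve_left fun h => hy (Ideal.mem_span_singleton.mpr h)
    rw [Submodule.Quotient.eq]
    exact (Submodule.mem_smul_pointwise_iff_exists _ _ _).mpr ⟨e, trivial, he.symm⟩
  exact Groth.L04.length_le_idealDepth hreg (by
    simp only [List.mem_cons, List.not_mem_nil, or_false, forall_eq_or_imp, forall_eq]; exact ⟨hxm, hym⟩)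

theorem stalk_transfer (y : ↥(Spec (CommRingCat.of A))) :
    Nonempty (Localization.AtPrime y.asIdeal ≃+* ((Spec (CommRingCat.of A)).presheaf.stalk y)) := by
  let y' : PrimeSpectrum A := y
  letI : Algebra A ((Spec.structureSheaf A).presheaf.stalk y') := StructureSheaf.stalkAlgebra A y'
  haveI : IsLocalization.AtPrime ((Spec.structureSheaf A).presheaf.stalk y') y'.asIdeal :=
    StructureSheaf.IsLocalization.to_stalk A y'
  exact ⟨(IsLocalization.algEquiv y'.asIdeal.primeCompl (Localization.AtPrime y'.asIdeal)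
    ((Spec.structureSheaf A).presheaf.stalk y')).toRingEquiv⟩

theorem ufd_iff_punctured (hdim : (2 : WithBot ℕ∞) ≤ ringKrullDim A) :
    (IsDomain A ∧ UniqueFactorizationMonoid A) ↔
      (ParaF.PicTrivial (FEt.puncturedSpec A : Scheme.{u}) ∧ (2 : ℕ∞) ≤ LocCoh.depth A A ∧
        ∀ y : ↥(Spec (CommRingCat.of A)), y ∈ FEt.puncturedSpec A →
          IsDomain ((Spec (CommRingCat.of A)).presheaf.stalk y) ∧
            UniqueFactorizationMonoid ((Spec (CommRingCat.of A)).presheaf.stalk y)) := by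
  constructor
  · rintro ⟨h, h'⟩
    refine ⟨fun L hL => nonempty_iso_structureModule_of_ufd A _ L hL, two_le_depth_of_ufd hdim, fun y _ => ?_⟩
    obtain ⟨e⟩ := stalk_transfer y
    have hnd := (y.asIdeal).primeCompl_le_nonZeroDivisors
    haveI : IsDomain (Localization.AtPrime y.asIdeal) := IsLocalization.isDomain_localization hnd
    haveI : UniqueFactorizationMonoid (Localization.AtPrime y.asIdeal) :=
      UniqueFactorizationMonoid.of_isLocalization y.asIdeal.primeCompl _
    exact ⟨e.symm.toMulEquiv.isDomain, e.toMulEquiv.uniqueFactorizationMonoid inferInstance⟩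
  · rintro ⟨hP, hd, hU⟩
    have hloc : ∀ q : Ideal A, [q.IsPrime] → q ≠ IsLocalRing.maximalIdeal A →
        IsDomain (Localization.AtPrime q) ∧ UniqueFactorizationMonoid (Localization.AtPrime q) := by
      intro q hq hne
      let y : ↥(Spec (CommRingCat.of A)) := (⟨q, hq⟩ : PrimeSpectrum A)
      have hyU : y ∈ FEt.puncturedSpec A := fun h => hne (congrArg PrimeSpectrum.asIdeal h)
      obtain ⟨e⟩ := stalk_transfer y
      obtain ⟨h1, h2⟩ := hU y hyU
      exact ⟨e.toMulEquiv.isDomain, e.symm.toMulEquiv.uniqueFactorizationMonoid h2⟩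
    haveI := isDomain_of_depth_two hd fun q _ hne => (hloc q hne).1
    haveI := isIntegrallyClosed_of_depth_two hd fun q _ hne => by
      haveI := (hloc q hne).1
      haveI := (hloc q hne).2
      infer_instance
    exact ⟨inferInstance, (ufd_iff_punctured_of_normal hdim).mpr ⟨fun y hy => (hU y hy).2, hP⟩⟩

end Groth.L14.ParaF
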