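import Groth.Agent.L14.ParaF.Basic
import Groth.Agent.L21.Extend.UFD
import Mathlib.RingTheory.Ideal.KrullsHeightTheorem

/-! Factorial local rings of dimension at least two are parafactorial. -/

set_option autoImplicit false
set_option linter.style.haveILetI false
universe u

open CategoryTheory AlgebraicGeometry TopologicalSpace Opposite

noncomputable section

namespace Groth.L14.ParaF

open Groth.L21.Extend

theorem maximalIdeal_not_principal {A : Type u} [CommRing A] [IsNoetherianRing A] [IsLocalRing A]
    (hdim : (2 : WithBot ℕ∞) ≤ ringKrullDim A) (π : A) :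
    IsLocalRing.maximalIdeal A ≠ Ideal.span {π} := by
  intro h
  haveI : (IsLocalRing.maximalIdeal A).IsPrincipal := ⟨π, h⟩
  have h1 := Ideal.height_le_one_of_isPrincipal_of_mem_minimalPrimes (IsLocalRing.maximalIdeal A)
    (IsLocalRing.maximalIdeal A) (by rw [Ideal.minimalPrimes_eq_subsingleton_self]; exact Set.mem_singleton _)
  rw [← IsLocalRing.maximalIdeal_height_eq_ringKrullDim] at hdim
  have h2 : (2 : ℕ∞) ≤ 1 := le_trans (WithBot.coe_le_coe.mp hdim) h1
  exact absurd h2 (by norm_num)

theorem parafactorial_of_ufd (A : Type u) [CommRing A] [IsDomain A] [IsNoetherianRing A] [IsLocalRing A]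
    [UniqueFactorizationMonoid A] (hdim : (2 : WithBot ℕ∞) ≤ ringKrullDim A) :
    ParaF.IsParafactorialLocalRing A := by
  refine isParafactorialLocalRing_iff'.mpr
    ⟨?_, fun L hL => nonempty_iso_structureModule_of_ufd A _ L hL⟩
  let X := Spec (CommRingCat.of A)
  let U := FEt.puncturedSpec A
  let W : X.Opens := ⊤
  have hW : IsAffineOpen W := isAffineOpen_top _
  let ε : Γ(X, W) ≃+* A := (Scheme.ΓSpecIso (CommRingCat.of A)).commRingCatIsoToRingEquiv
  haveI : IsDomain Γ(X, W) := ε.toMulEquiv.isDomain
  haveI : UniqueFactorizationMonoid Γ(X, W) := ε.symm.toMulEquiv.uniqueFactorizationMonoid inferInstance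
  let y₀ : X := IsLocalRing.closedPoint A
  have hy₀ : y₀ ∈ W := trivial
  have hpr : ∀ b : Γ(X, W), b ∈ pr hW hy₀ ↔ ¬ IsUnit b := by
    intro b
    refine ⟨fun hb hu => (mem_basicOpen hW hy₀ b).mp ?_ hb, fun hu => ?_⟩
    · rw [X.basicOpen_of_isUnit hu]; trivial
    · by_contra hb
      have hmem := (mem_basicOpen hW hy₀ b).mpr hb
      have htop : X.basicOpen b = ⊤ :=
        top_unique fun z _ => (IsLocalRing.specializes_closedPoint z).mem_open (X.basicOpen b).isOpen hmem
      refine hu ?_
      have h1 := X.toRingedSpace.isUnit_res_basicOpen b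
      have h2 : IsIso (X.presheaf.map (homOfLE (X.basicOpen_le b)).op) := by
        haveI : IsIso (homOfLE (X.basicOpen_le b)) := ⟨homOfLE (htop ▸ le_top), Subsingleton.elim _ _, Subsingleton.elim _ _⟩
        infer_instance
      haveI := h2
      exact (isUnit_map_iff (asIso (X.presheaf.map (homOfLE (X.basicOpen_le b)).op)).commRingCatIsoToRingEquiv b).mp h1
  have hgen : gen hW ≠ y₀ := by
    intro h
    have hbot : pr hW hy₀ = ⊥ := by
      have hq := pr_pt hW (⊥ : Ideal Γ(X, W))
      simp only [gen] at h
      simp only [h] at hq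
      exact hq
    have hfield : ∀ a : A, a ≠ 0 → IsUnit a := fun a ha => by
      by_contra hu
      have h1 : ε.symm a ∈ pr hW hy₀ := (hpr _).mpr (fun h => hu ((isUnit_map_iff ε.symm a).mp h))
      rw [hbot, Submodule.mem_bot] at h1
      exact ha (by rw [← ε.apply_symm_apply a, h1, map_zero])
    refine maximalIdeal_not_principal hdim 0 ?_
    ext a
    rw [IsLocalRing.mem_maximalIdeal, mem_nonunits_iff, Ideal.mem_span_singleton, zero_dvd_iff]
    exact ⟨fun h => by by_contra h0; exact h (hfield a h0), fun h => h ▸ not_isUnit_zero⟩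
  have hgU : gen hW ∈ U := fun h => hgen h
  refine ⟨le_top, fun a b hab => ?_, fun a => ?_⟩
  · refine sec_injective hW le_rfl (gen_mem hW) ?_
    have := congrArg (sec hW hgU) hab
    rwa [show rs (Coh.structureModule X) (le_top : U ≤ ⊤) a = X.presheaf.map (homOfLE le_top).op a from rfl,
      show rs (Coh.structureModule X) (le_top : U ≤ ⊤) b = X.presheaf.map (homOfLE le_top).op b from rfl,
      sec_res, sec_res] at this
  · have hz : ∀ y (hy : y ∈ W), InLoc (pr hW hy) (sec hW hgU a) := by
      intro y hy
      by_cases hyU : y ∈ U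
      · exact inLoc_sec hW hy hyU a
      · have hy' : y = y₀ := Set.notMem_compl_iff.mp hyU
        subst hy'
        refine inLoc_of_forall_prime _ _ fun π hπ _ => ?_
        haveI : (Ideal.span {π}).IsPrime := (Ideal.span_singleton_prime hπ.ne_zero).mpr hπ
        have hpU : pt hW (Ideal.span {π}) ∈ U := by
          intro h
          rw [Set.mem_singleton_iff] at h
          have he : pr hW hy₀ = Ideal.span {π} := by
            have hq := pr_pt hW (Ideal.span {π})
            simp only [h] at hq
            exact hq
          refine maximalIdeal_not_principal hdim (ε π) ?_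
          ext x
          rw [IsLocalRing.mem_maximalIdeal, mem_nonunits_iff, Ideal.mem_span_singleton,
            ← isUnit_map_iff ε.symm, ← hpr, he, Ideal.mem_span_singleton,
            ← map_dvd_iff ε, ε.apply_symm_apply]
        have h1 := inLoc_sec hW (pt_mem hW _) hpU a
        rwa [pr_pt] at h1
    obtain ⟨c, hc⟩ := exists_sec hW (le_refl W) (sec hW hgU a) hz
    refine ⟨c, ?_⟩
    show X.presheaf.map (homOfLE le_top).op c = a
    refine sec_injective hW le_top hgU ?_
    rw [sec_res]
    exact hc _

end Groth.L14.ParaF
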