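import Groth.Agent.L14.ParaF.Basic
import Groth.Agent.L17.FinLocBases

/-! Extension of finite locally free modules along opens with the Hartogs property. -/

set_option autoImplicit false
set_option linter.style.haveILetI false
universe u

open CategoryTheory AlgebraicGeometry TopologicalSpace Opposite

noncomputable section

namespace Groth.L14.ParaF

open Groth.L21.Extend

variable {X : Scheme.{u}}

theorem supportedOn_freeMod {M : X.Modules} {U : X.Opens} (hO : SupportedOn (Coh.structureModule X) U)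
    {n : ℕ} (φ : M ≅ FlatMod.freeMod X n) : SupportedOn M U := by
  obtain ⟨a, b, hab, hba⟩ := Groth.L17.FinLocBases.exists_split n φ
  have htot : ∀ (W : X.Opens) (s : Γ(M, W)), s = ∑ i, (a i).app W ((b i).app W s) := fun W s => by
    have h1 : (∑ i, b i ≫ a i).app W s = s := by rw [hba]; rfl
    rw [Groth.L17.FinLocBases.app_sum] at h1
    exact h1.symm
  intro V
  refine ⟨fun s t h => ?_, fun r => ?_⟩
  · rw [htot V s, htot V t]
    refine Finset.sum_congr rfl fun i _ => congrArg _ ((hO V).1 ?_)
    show rs _ _ ((b i).app V s) = rs _ _ ((b i).app V t)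
    rw [← rs_app, ← rs_app]
    exact congrArg _ h
  · choose c hc using fun i => (hO V).2 ((b i).app _ r)
    refine ⟨∑ i, (a i).app V (c i), ?_⟩
    show rs M _ (∑ i, (a i).app V (c i)) = r
    rw [show rs M (inf_le_left : V ⊓ U ≤ V) (∑ i, (a i).app V (c i)) =
      ∑ i, rs M inf_le_left ((a i).app V (c i)) from map_sum _ _ _]
    conv_rhs => rw [htot _ r]
    exact Finset.sum_congr rfl fun i _ => by rw [← rs_app]; exact congrArg _ (hc i)

theorem supportedOn_of_finLocFree {M : X.Modules} {U : X.Opens} (hO : SupportedOn (Coh.structureModule X) U)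
    (hM : FlatMod.IsFinLocFree M) : SupportedOn M U := by
  choose W n hxW hφ using hM
  exact supportedOn_of_cover W (top_unique fun x _ => Opens.mem_iSup.mpr ⟨x, hxW x⟩) fun x =>
    supportedOn_freeMod (supportedOn_structureModule_restrict (W x).ι hO) (hφ x).some

theorem finLocFree_of_iso {M N : X.Modules} (φ : M ≅ N) (h : FlatMod.IsFinLocFree M) :
    FlatMod.IsFinLocFree N := fun x => by
  obtain ⟨U, n, hx, ⟨e⟩⟩ := h x
  exact ⟨U, n, hx, ⟨((Scheme.Modules.restrictFunctor U.ι).mapIso φ).symm ≪≫ e⟩⟩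

theorem finLocFree_extends_iff {U : X.Opens} (hO : SupportedOn (Coh.structureModule X) U)
    (F : (U : Scheme.{u}).Modules) :
    ((∃ E : X.Modules, FlatMod.IsFinLocFree E ∧ Nonempty (E.restrict U.ι ≅ F)) ↔
        FlatMod.IsFinLocFree ((Scheme.Modules.pushforward U.ι).obj F)) ∧
      (∀ E : X.Modules, FlatMod.IsFinLocFree E → Nonempty (E.restrict U.ι ≅ F) →
        Nonempty (E ≅ (Scheme.Modules.pushforward U.ι).obj F)) := by
  have key : ∀ E : X.Modules, FlatMod.IsFinLocFree E → Nonempty (E.restrict U.ι ≅ F) →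
      Nonempty (E ≅ (Scheme.Modules.pushforward U.ι).obj F) := fun E hE ⟨φ⟩ => by
    haveI := isIso_unit U.ι (by rw [Scheme.Opens.opensRange_ι]; exact supportedOn_of_finLocFree hO hE :
      SupportedOn E U.ι.opensRange)
    exact ⟨asIso ((Scheme.Modules.restrictAdjunction U.ι).unit.app E) ≪≫
      (Scheme.Modules.pushforward U.ι).mapIso φ⟩
  refine ⟨⟨fun ⟨E, hE, hφ⟩ => finLocFree_of_iso (key E hE hφ).some hE, fun h =>
    ⟨_, h, ⟨(Scheme.Modules.restrictFunctorAdjCounitIso U.ι).app F⟩⟩⟩, key⟩

end Groth.L14.ParaF
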