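import Groth.Agent.L14.ParaF.Vanish
import Groth.Agent.L14.ParaF.Ufd
import Mathlib.RingTheory.IntegralClosure.IntegrallyClosed
import Mathlib.RingTheory.Localization.LocalizationLocalization

/-! Factoriality from the punctured spectrum. -/

set_option autoImplicit false
set_option linter.style.haveILetI false
universe u

open CategoryTheory AlgebraicGeometry TopologicalSpace Opposite

noncomputable section

namespace Groth.L14.ParaF

open Groth.L21.Extend

section Algebra

variable {B : Type u} [CommRing B] [IsDomain B] [IsNoetherianRing B] {K : Type u} [Field K] [Algebra B K]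
  [IsFractionRing B K]

theorem inLoc_maximal_of_normal [IsLocalRing B] [IsIntegrallyClosed B]
    (hdim : (2 : WithBot ℕ∞) ≤ ringKrullDim B) (z : K)
    (hz : ∀ q : Ideal B, q.IsPrime → q ≠ IsLocalRing.maximalIdeal B → InLoc q z) :
    ∃ b : B, algebraMap B K b = z := by
  classical
  let 𝔪 := IsLocalRing.maximalIdeal B
  let den : Ideal B :=
    { carrier := {s | ∃ b, algebraMap B K s * z = algebraMap B K b}
      zero_mem' := ⟨0, by simp⟩
      add_mem' := fun {a b} ⟨c, hc⟩ ⟨d, hd⟩ => ⟨c + d, by rw [map_add, map_add, add_mul, hc, hd]⟩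
      smul_mem' := fun r a ⟨c, hc⟩ => ⟨r * c, by rw [smul_eq_mul, map_mul, map_mul, mul_assoc, hc]⟩ }
  obtain ⟨n, hn⟩ : ∃ n, 𝔪 ^ n ≤ den := by
    by_cases htop : den = ⊤
    · exact ⟨0, by rw [htop]; exact le_top⟩
    refine Ideal.exists_pow_le_of_le_radical_of_fg ?_ (IsNoetherian.noetherian _)
    rw [Ideal.radical_eq_sInf]
    refine le_sInf fun q ⟨hle, hq⟩ => ?_
    by_contra hne
    obtain ⟨a, s, hs, e⟩ := hz q hq fun h => hne (h ▸ le_rfl)
    exact hs (hle ⟨a, by rw [mul_comm]; exact e⟩)
  induction n with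
  | zero =>
    rw [pow_zero, Ideal.one_eq_top] at hn
    obtain ⟨b, hb⟩ := hn (Submodule.mem_top (x := (1 : B)))
    exact ⟨b, by rw [← hb, map_one, one_mul]⟩
  | succ n ih =>
    refine ih fun t ht => ?_
    set w := algebraMap B K t * z with hwdef
    have hw : ∀ x ∈ 𝔪, ∃ b, algebraMap B K x * w = algebraMap B K b := fun x hx => by
      obtain ⟨b, hb⟩ := hn (by rw [pow_succ]; exact Ideal.mul_mem_mul ht hx : t * x ∈ 𝔪 ^ (n + 1))
      exact ⟨b, by rw [← hb, map_mul, hwdef]; ring⟩
    choose f hf using hw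
    by_cases hin : ∀ x hx, f x hx ∈ 𝔪
    · have hint : IsIntegral B w := by
        refine isIntegral_of_smul_mem_submodule
          (M := K) ((Submodule.map (Algebra.linearMap B K) 𝔪)) ?_ ((IsNoetherian.noetherian 𝔪).map _) w ?_
        · intro hbot
          obtain ⟨x, hx, hx0⟩ := (Submodule.ne_bot_iff _).mp (fun h => maximalIdeal_not_principal hdim 0
            (Eq.trans h (by simp)) : 𝔪 ≠ ⊥)
          have hmem : algebraMap B K x ∈ Submodule.map (Algebra.linearMap B K) 𝔪 := ⟨x, hx, rfl⟩
          rw [hbot, Submodule.mem_bot] at hmem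
          exact hx0 (IsFractionRing.injective B K (hmem.trans (map_zero _).symm))
        · rintro _ ⟨x, hx, rfl⟩
          exact ⟨f x hx, hin x hx, by
            show algebraMap B K (f x hx) = w • algebraMap B K x
            rw [smul_eq_mul, mul_comm, hf]⟩
      obtain ⟨b, hb⟩ := IsIntegrallyClosed.isIntegral_iff.mp hint
      exact ⟨b, hb.symm⟩
    · push Not at hin
      obtain ⟨x, hx, hfx⟩ := hin
      exfalso
      rw [IsLocalRing.mem_maximalIdeal, mem_nonunits_iff, not_not] at hfx
      obtain ⟨v, hv⟩ := hfx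
      refine maximalIdeal_not_principal hdim x ?_
      refine le_antisymm (fun y hy => ?_) ((Ideal.span_singleton_le_iff_mem _).mpr hx)
      refine Ideal.mem_span_singleton.mpr ⟨f y hy * ↑v⁻¹, IsFractionRing.injective B K ?_⟩
      have hv' : algebraMap B K (v : B) * algebraMap B K ↑v⁻¹ = 1 := by
        rw [← map_mul, Units.mul_inv, map_one]
      have h1 := hf y hy
      have h2 := hf x hx
      rw [← hv] at h2
      rw [map_mul, map_mul, ← h1]
      calc algebraMap B K y = algebraMap B K y * (algebraMap B K (v : B) * algebraMap B K ↑v⁻¹) := by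
            rw [hv', mul_one]
        _ = algebraMap B K x * (algebraMap B K y * w * algebraMap B K ↑v⁻¹) := by rw [← h2]; ring

end Algebra

variable {A : Type u} [CommRing A] [IsLocalRing A]

theorem Bij.global_of_normal [IsDomain A] [IsNoetherianRing A] [IsIntegrallyClosed A]
    (hdim : (2 : WithBot ℕ∞) ≤ ringKrullDim A) :
    Bij (Coh.structureModule (Spec (CommRingCat.of A))) ⊤ (FEt.puncturedSpec A) := by
  let X := Spec (CommRingCat.of A)
  let U := FEt.puncturedSpec A
  let W : X.Opens := ⊤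
  have hW : IsAffineOpen W := isAffineOpen_top _
  let ε : Γ(X, W) ≃+* A := (Scheme.ΓSpecIso (CommRingCat.of A)).commRingCatIsoToRingEquiv
  haveI : IsDomain Γ(X, W) := ε.toMulEquiv.isDomain
  haveI : IsNoetherianRing Γ(X, W) := isNoetherianRing_of_ringEquiv A ε.symm
  haveI : IsLocalRing Γ(X, W) := ε.symm.isLocalRing
  haveI : IsIntegrallyClosed Γ(X, W) := IsIntegrallyClosed.of_equiv ε.symm
  let y₀ : X := IsLocalRing.closedPoint A
  have hdim' : (2 : WithBot ℕ∞) ≤ ringKrullDim Γ(X, W) := (ringKrullDim_eq_of_ringEquiv ε).symm ▸ hdim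
  have hy₀ : pr hW (show y₀ ∈ W from trivial) = IsLocalRing.maximalIdeal Γ(X, W) := by
    refine le_antisymm (IsLocalRing.le_maximalIdeal (Ideal.IsPrime.ne_top inferInstance)) fun b hb => ?_
    by_contra hbn
    have hmem := (mem_basicOpen hW trivial b).mpr hbn
    have htop : X.basicOpen b = ⊤ :=
      top_unique fun z _ => (IsLocalRing.specializes_closedPoint z).mem_open (X.basicOpen b).isOpen hmem
    haveI : IsIso (homOfLE (X.basicOpen_le b)) :=
      ⟨homOfLE (htop ▸ le_top), Subsingleton.elim _ _, Subsingleton.elim _ _⟩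
    exact hb ((isUnit_map_iff (asIso (X.presheaf.map (homOfLE (X.basicOpen_le b)).op)).commRingCatIsoToRingEquiv b).mp
      (X.toRingedSpace.isUnit_res_basicOpen b))
  have hgU : gen hW ∈ U := by
    intro h
    rw [Set.mem_singleton_iff] at h
    have hq := pr_pt hW (⊥ : Ideal Γ(X, W))
    simp only [gen] at h
    simp only [h] at hq
    rw [show pr hW _ = IsLocalRing.maximalIdeal Γ(X, W) from hy₀] at hq
    exact maximalIdeal_not_principal hdim' 0 (by rw [hq]; simp)
  refine ⟨le_top, fun a b hab => ?_, fun a => ?_⟩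
  · refine sec_injective hW le_rfl (gen_mem hW) ?_
    have := congrArg (sec hW hgU) hab
    rwa [show rs (Coh.structureModule X) (le_top : U ≤ ⊤) a = X.presheaf.map (homOfLE le_top).op a from rfl,
      show rs (Coh.structureModule X) (le_top : U ≤ ⊤) b = X.presheaf.map (homOfLE le_top).op b from rfl,
      sec_res, sec_res] at this
  · obtain ⟨c, hc⟩ := inLoc_maximal_of_normal hdim' (sec hW hgU a) fun q hq hne => by
      have hpU : pt hW q ∈ U := by
        intro h
        rw [Set.mem_singleton_iff] at h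
        have hq' := pr_pt hW q
        simp only [h] at hq'
        exact hne (hq'.symm.trans hy₀)
      have h1 := inLoc_sec hW (pt_mem hW q) hpU a
      rwa [pr_pt] at h1
    refine ⟨c, ?_⟩
    show X.presheaf.map (homOfLE le_top).op c = a
    refine sec_injective hW le_top hgU ?_
    rw [sec_res, ← hc]
    exact sec_top hW c

theorem ufd_of_picTrivial [IsDomain A] [IsNoetherianRing A] (hdim : (2 : WithBot ℕ∞) ≤ ringKrullDim A)
    (hO : Bij (Coh.structureModule (Spec (CommRingCat.of A))) ⊤ (FEt.puncturedSpec A))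
    (hP : ParaF.PicTrivial (FEt.puncturedSpec A : Scheme.{u}))
    (hU : ∀ y : ↥(Spec (CommRingCat.of A)), y ∈ FEt.puncturedSpec A →
      UniqueFactorizationMonoid ((Spec (CommRingCat.of A)).presheaf.stalk y)) :
    UniqueFactorizationMonoid A := by
  let X := Spec (CommRingCat.of A)
  let U := FEt.puncturedSpec A
  let W : X.Opens := ⊤
  have hW : IsAffineOpen W := isAffineOpen_top _
  let ε : Γ(X, W) ≃+* A := (Scheme.ΓSpecIso (CommRingCat.of A)).commRingCatIsoToRingEquiv
  haveI : IsDomain Γ(X, W) := ε.toMulEquiv.isDomain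
  haveI : IsNoetherianRing Γ(X, W) := isNoetherianRing_of_ringEquiv A ε.symm
  haveI : IsLocalRing Γ(X, W) := ε.symm.isLocalRing
  suffices UniqueFactorizationMonoid Γ(X, W) from ε.toMulEquiv.uniqueFactorizationMonoid this
  refine UniqueFactorizationMonoid.of_forall_isPrincipal_of_height_eq_one fun p hp hp1 => ?_
  let Z : Set X := {z : X | ∀ hz : z ∈ W, p ≤ pr hW hz}
  have hgen : GenOn (vanMod Z) U := genOn_vanMod hW p hp1 le_top hU
  have hinv : PicF.IsInvertible ((vanMod Z).restrict U.ι) := by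
    refine isInvertible_iff.mpr ?_
    have := genOn_restrict U.ι hgen
    rwa [Scheme.Opens.ι_preimage_self] at this
  obtain ⟨φ⟩ := hP _ hinv
  obtain ⟨e, he⟩ := exists_gen_of_iso (vanMod Z) φ
  obtain ⟨a, ha⟩ : ∃ a : Γ(X, W), rO X (le_top : U ≤ ⊤) a = vval e :=
    hO.2.2 (show Γ(Coh.structureModule X, U) from vval e)
  have hpU : pt hW p ∈ U := by
    intro h
    rw [Set.mem_singleton_iff] at h
    have hmax : p = IsLocalRing.maximalIdeal Γ(X, W) := by
      refine le_antisymm (IsLocalRing.le_maximalIdeal hp.ne_top) fun b hb => ?_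
      by_contra hbn
      have hmem : (IsLocalRing.closedPoint A : X) ∈ X.basicOpen b := by
        rw [← h]; exact (mem_basicOpen hW (pt_mem hW p) b).mpr (by rwa [pr_pt])
      have htop : X.basicOpen b = ⊤ :=
        top_unique fun z _ => (IsLocalRing.specializes_closedPoint z).mem_open (X.basicOpen b).isOpen hmem
      haveI : IsIso (homOfLE (X.basicOpen_le b)) :=
        ⟨homOfLE (htop ▸ le_top), Subsingleton.elim _ _, Subsingleton.elim _ _⟩
      exact hb ((isUnit_map_iff (asIso (X.presheaf.map (homOfLE (X.basicOpen_le b)).op)).commRingCatIsoToRingEquiv b).mp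
        (X.toRingedSpace.isUnit_res_basicOpen b))
    have h2 : (2 : WithBot ℕ∞) ≤ ((1 : ℕ∞) : WithBot ℕ∞) := by
      rw [← hp1, hmax, IsLocalRing.maximalIdeal_height_eq_ringKrullDim, ringKrullDim_eq_of_ringEquiv ε]
      exact hdim
    exact absurd (WithBot.coe_le_coe.mp h2) (by norm_num)
  have hap : a ∈ p := by
    by_contra hn
    have h1 := vval_vanishes e (pt hW p) hpU fun hz => by rw [pr_pt]
    rw [← ha, rO, Scheme.basicOpen_res] at h1
    exact h1 ⟨hpU, (mem_basicOpen hW (pt_mem hW p) a).mpr (by rwa [pr_pt])⟩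
  refine ⟨a, le_antisymm (fun x hx => ?_) ((Ideal.span_singleton_le_iff_mem _).mpr hap)⟩
  obtain ⟨t, ht⟩ := exists_vval ((vanishes_top_of_mem hW hx).res (le_top : U ≤ ⊤))
  obtain ⟨c, hc⟩ := (he U le_rfl).2 t
  obtain ⟨C, hC⟩ : ∃ C : Γ(X, W), rO X (le_top : U ≤ ⊤) C = c :=
    hO.2.2 (show Γ(Coh.structureModule X, U) from c)
  refine Ideal.mem_span_singleton.mpr ⟨C, hO.2.1 ?_⟩
  show rO X (le_top : U ≤ ⊤) x = rO X (le_top : U ≤ ⊤) (a * C)
  rw [show rO X (le_top : U ≤ ⊤) (a * C) = rO X le_top a * rO X le_top C from map_mul _ _ _]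
  rw [ha, hC, ← ht, ← hc, vval_smul, vval_rs, mul_comm]
  congr 1

theorem ufd_iff_punctured_of_normal [IsDomain A] [IsNoetherianRing A] [IsIntegrallyClosed A]
    (hdim : (2 : WithBot ℕ∞) ≤ ringKrullDim A) :
    UniqueFactorizationMonoid A ↔
      ((∀ y : ↥(Spec (CommRingCat.of A)), y ∈ FEt.puncturedSpec A →
          UniqueFactorizationMonoid ((Spec (CommRingCat.of A)).presheaf.stalk y)) ∧
        ParaF.PicTrivial (FEt.puncturedSpec A : Scheme.{u})) := by
  refine ⟨fun h => ⟨fun y _ => ?_, fun L hL => nonempty_iso_structureModule_of_ufd A _ L hL⟩,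
    fun ⟨h1, h2⟩ => ufd_of_picTrivial hdim (Bij.global_of_normal hdim) h2 h1⟩
  let y' : PrimeSpectrum A := y
  letI : Algebra A ((Spec.structureSheaf A).presheaf.stalk y') := StructureSheaf.stalkAlgebra A y'
  haveI : IsLocalization.AtPrime ((Spec.structureSheaf A).presheaf.stalk y') y'.asIdeal :=
    StructureSheaf.IsLocalization.to_stalk A y'
  exact UniqueFactorizationMonoid.of_isLocalization y'.asIdeal.primeCompl
    ((Spec.structureSheaf A).presheaf.stalk y')

end Groth.L14.ParaF
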