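import Groth.Agent.L14.ParaF.Basic
import Groth.Agent.L21.Extend.UFD
import Mathlib.Algebra.Category.ModuleCat.Presheaf.Submodule
import Mathlib.RingTheory.Ideal.UFD
import Mathlib.RingTheory.Localization.AtPrime.Basic

/-! The module of functions vanishing on a closed subset; principality of height-one primes. -/

set_option autoImplicit false
set_option linter.style.haveILetI false
universe u

open CategoryTheory AlgebraicGeometry TopologicalSpace Opposite

noncomputable section

namespace Groth.L14.ParaF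

open Groth.L21.Extend

variable {X : Scheme.{u}}

/-- `s` vanishes on `Z`. -/
def Vanishes (Z : Set X) {V : X.Opens} (s : Γ(X, V)) : Prop := ∀ y ∈ V, y ∈ Z → y ∉ X.basicOpen s

theorem Vanishes.res {Z : Set X} {V V' : X.Opens} {s : Γ(X, V)} (hs : Vanishes Z s) (h : V' ≤ V) :
    Vanishes Z (rO X h s) := fun y hy hyZ hyb => by
  rw [rO, Scheme.basicOpen_res] at hyb
  exact hs y (h hy) hyZ hyb.2

theorem mem_maximalIdeal_iff {V : X.Opens} {y : X} (hy : y ∈ V) (s : Γ(X, V)) :
    y ∉ X.basicOpen s ↔ X.presheaf.germ V y hy s ∈ IsLocalRing.maximalIdeal (X.presheaf.stalk y) := by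
  rw [Scheme.mem_basicOpen (X := X) s y hy, IsLocalRing.mem_maximalIdeal, mem_nonunits_iff]

/-- Functions vanishing on `Z`, as a submodule. -/
def vanSub (Z : Set X) : PresheafOfModules.Submodule (Coh.structureModule X).val where
  obj V :=
    { carrier := {s : Γ(X, V.unop) | Vanishes Z s}
      zero_mem' := fun y hy _ hyb => by
        rw [Scheme.mem_basicOpen (X := X) _ y hy] at hyb
        exact not_isUnit_zero ((map_zero (X.presheaf.germ V.unop y hy).hom) ▸ hyb)
      add_mem' := fun {s t} h1 h2 y hy hyZ => (mem_maximalIdeal_iff (V := V.unop) hy _).mpr (by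
        show (X.presheaf.germ V.unop y hy).hom ((show Γ(X, V.unop) from s) + (show Γ(X, V.unop) from t)) ∈ _
        rw [map_add]
        exact add_mem ((mem_maximalIdeal_iff hy _).mp (h1 y hy hyZ))
          ((mem_maximalIdeal_iff hy _).mp (h2 y hy hyZ)))
      smul_mem' := fun r s h1 y hy hyZ => (mem_maximalIdeal_iff (V := V.unop) hy _).mpr (by
        show (X.presheaf.germ V.unop y hy).hom ((show Γ(X, V.unop) from r) * (show Γ(X, V.unop) from s)) ∈ _
        rw [map_mul]
        exact Ideal.mul_mem_left _ _ ((mem_maximalIdeal_iff hy _).mp (h1 y hy hyZ))) }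
  map {V V'} f s hs := Vanishes.res (X := X) (hs : Vanishes Z (show Γ(X, V.unop) from s)) f.unop.le

/-- Functions vanishing on `Z`, as a sheaf of modules. -/
def vanMod (Z : Set X) : X.Modules :=
  ⟨(vanSub Z).toPresheafOfModules, by
    refine (TopCat.Presheaf.isSheaf_iff_isSheafUniqueGluing _).mpr ?_
    intro ι N sf hsf
    obtain ⟨t, ht, huniq⟩ := TopCat.Sheaf.existsUnique_gluing
      (⟨(Coh.structureModule X).presheaf, (Coh.structureModule X).isSheaf⟩ : TopCat.Sheaf Ab X.toTopCat)
      N (fun i => (sf i).val) (fun i k => congrArg Subtype.val (hsf i k))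
    refine ⟨⟨t, fun y hy hyZ hyb => ?_⟩, fun i => Subtype.ext (ht i), fun t' ht' => Subtype.ext
      (huniq t'.val fun i => congrArg Subtype.val (ht' i))⟩
    obtain ⟨i, hi⟩ := Opens.mem_iSup.mp hy
    refine (sf i).property y hi hyZ ?_
    have h1 : y ∈ X.basicOpen (rO X (le_iSup N i) (show Γ(X, iSup N) from t)) := by
      rw [rO, Scheme.basicOpen_res]; exact ⟨hi, hyb⟩
    rwa [show rO X (le_iSup N i) (show Γ(X, iSup N) from t) = (sf i).val from ht i] at h1⟩

/-- The function underlying a section of `vanMod`. -/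
def vval {Z : Set X} {V : X.Opens} (t : Γ(vanMod Z, V)) : Γ(X, V) := Subtype.val t

theorem vval_injective {Z : Set X} (V : X.Opens) : Function.Injective (vval (Z := Z) (V := V)) :=
  Subtype.val_injective

theorem vval_smul {Z : Set X} {V : X.Opens} (r : Γ(X, V)) (t : Γ(vanMod Z, V)) :
    vval (r • t) = r * vval t := rfl

theorem vval_rs {Z : Set X} {V V' : X.Opens} (h : V' ≤ V) (t : Γ(vanMod Z, V)) :
    vval (rs (vanMod Z) h t) = rO X h (vval t) := rfl

theorem vval_vanishes {Z : Set X} {V : X.Opens} (t : Γ(vanMod Z, V)) : Vanishes Z (vval t) :=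
  Subtype.property t

theorem exists_vval {Z : Set X} {V : X.Opens} {s : Γ(X, V)} (hs : Vanishes Z s) :
    ∃ t : Γ(vanMod Z, V), vval t = s := ⟨⟨s, hs⟩, rfl⟩

variable {W : X.Opens} (hW : IsAffineOpen W) [IsDomain Γ(X, W)]

theorem exists_fraction_vanishes {V : X.Opens} {y : X} (hy : y ∈ W) (hyV : y ∈ V) (s : Γ(X, V)) :
    ∃ r t : Γ(X, W), t ∉ pr hW hy ∧
      sec hW (gen_mem_of_mem hW hy hyV) s * algebraMap _ (FractionRing Γ(X, W)) t = algebraMap _ _ r ∧
      (y ∉ X.basicOpen s ↔ r ∈ pr hW hy) := by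
  obtain ⟨r, t, ht, e⟩ := inLoc_sec hW hy hyV s
  refine ⟨r, t, ht, e, ?_⟩
  have hu : ∀ b : Γ(X, W), IsUnit (X.presheaf.germ W y hy b) ↔ b ∉ pr hW hy := fun b =>
    ((Scheme.mem_basicOpen (X := X) b y hy).symm.trans (mem_basicOpen hW hy b))
  have key : X.presheaf.germ V y hyV s * X.presheaf.germ W y hy t = X.presheaf.germ W y hy r := by
    apply atPt_injective hW hy
    rw [map_mul, atPt_germ, atPt_germ, atPt_germ, sec_top, sec_top]
    exact e
  rw [Scheme.mem_basicOpen (X := X) s y hyV]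
  constructor
  · intro h
    by_contra hr
    have := (hu r).mpr hr
    rw [← key] at this
    exact h (isUnit_of_mul_isUnit_left this)
  · intro hr h
    exact (hu r).mp (key ▸ h.mul ((hu t).mpr ht)) hr

theorem exists_colon (p q : Ideal Γ(X, W)) [hp : p.IsPrime] [hq : q.IsPrime] [IsNoetherianRing Γ(X, W)]
    (hp1 : p.height = 1) [UniqueFactorizationMonoid (Localization.AtPrime q)] :
    ∃ π g : Γ(X, W), π ∈ p ∧ π ≠ 0 ∧ g ∉ q ∧ ∀ x ∈ p, ∃ c, g * x = π * c := by
  classical
  have hpbot : p ≠ ⊥ := p.ne_bot_of_height_eq_one hp1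
  by_cases hpq : p ≤ q
  · let R := Localization.AtPrime q
    have hdis : Disjoint (q.primeCompl : Set Γ(X, W)) (p : Set Γ(X, W)) :=
      Set.disjoint_left.mpr fun x hx hxp => hx (hpq hxp)
    let P : Ideal R := p.map (algebraMap Γ(X, W) R)
    haveI : P.IsPrime := IsLocalization.isPrime_of_isPrime_disjoint q.primeCompl R p hp hdis
    have hP : P.height = 1 := by rw [IsLocalization.height_map_of_disjoint q.primeCompl p hdis, hp1]
    obtain ⟨w, hw⟩ := (UniqueFactorizationMonoid.isPrincipal_of_height_eq_one hP)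
    have hwP : w ∈ P := by rw [hw]; exact Submodule.mem_span_singleton_self w
    obtain ⟨⟨π, s⟩, hπ⟩ := (IsLocalization.mem_map_algebraMap_iff q.primeCompl R).mp hwP
    have hu := IsLocalization.map_units R s
    have hw0 : w ≠ 0 := fun h0 => P.ne_bot_of_height_eq_one hP (by rw [hw, h0]; simp)
    have hπ0 : (π : Γ(X, W)) ≠ 0 := fun h0 => hw0 (hu.mul_left_eq_zero.mp (by
      rw [hπ]
      show algebraMap Γ(X, W) R (π : Γ(X, W)) = 0
      rw [h0, map_zero]))
    let J : Ideal Γ(X, W) :=
      { carrier := {x | ∃ t, t ∉ q ∧ ∃ c, t * x = (π : Γ(X, W)) * c}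
        zero_mem' := ⟨1, q.one_notMem, 0, by ring⟩
        add_mem' := fun {a b} ⟨t, ht, c, hc⟩ ⟨t', ht', c', hc'⟩ =>
          ⟨t * t', fun h => (hq.mem_or_mem h).elim ht ht', t' * c + t * c', by linear_combination t' * hc + t * hc'⟩
        smul_mem' := fun r x ⟨t, ht, c, hc⟩ => ⟨t, ht, r * c, by rw [smul_eq_mul]; linear_combination r * hc⟩ }
    have hJ : p ≤ J := fun x hx => by
      have : algebraMap Γ(X, W) R x ∈ P := Ideal.mem_map_of_mem _ hx
      rw [hw] at this
      obtain ⟨v, hv⟩ := Submodule.mem_span_singleton.mp this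
      obtain ⟨⟨c, t⟩, hct⟩ := IsLocalization.surj q.primeCompl v
      have h1 : algebraMap Γ(X, W) R ((t : Γ(X, W)) * s * x) = algebraMap Γ(X, W) R ((π : Γ(X, W)) * c) := by
        rw [map_mul, map_mul, map_mul, ← hv, smul_eq_mul]
        rw [← hct, ← hπ]; ring
      obtain ⟨t', ht'⟩ := (IsLocalization.eq_iff_exists q.primeCompl R).mp h1
      exact ⟨t' * t * s, fun h => by
        rcases hq.mem_or_mem h with h | h
        · exact (hq.mem_or_mem h).elim t'.2 t.2
        · exact s.2 h, t' * c, by linear_combination ht'⟩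
    obtain ⟨S, hS⟩ := (IsNoetherian.noetherian p : p.FG)
    choose t ht c hc using fun x : S => hJ (hS ▸ Submodule.subset_span x.2 : (x : Γ(X, W)) ∈ p)
    refine ⟨π, ∏ x : S, t x, π.2, hπ0, fun h => ?_, fun x hx => ?_⟩
    · obtain ⟨i, -, hi⟩ := (hq.prod_mem_iff).mp h
      exact ht i hi
    · rw [← hS] at hx
      induction hx using Submodule.span_induction with
      | mem z hz =>
        obtain ⟨m, hm⟩ := Finset.dvd_prod_of_mem t (Finset.mem_univ (⟨z, hz⟩ : S))
        exact ⟨m * c ⟨z, hz⟩, by rw [hm]; linear_combination m * hc ⟨z, hz⟩⟩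
      | zero => exact ⟨0, by ring⟩
      | add a b _ _ ha hb =>
        obtain ⟨c₁, h₁⟩ := ha; obtain ⟨c₂, h₂⟩ := hb
        exact ⟨c₁ + c₂, by linear_combination h₁ + h₂⟩
      | smul r a _ ha =>
        obtain ⟨c₁, h₁⟩ := ha
        exact ⟨r * c₁, by rw [smul_eq_mul]; linear_combination r * h₁⟩
  · obtain ⟨π, hπp, hπq⟩ := SetLike.not_le_iff_exists.mp hpq
    exact ⟨π, π, hπp, fun h => hπq (h ▸ q.zero_mem), hπq, fun x _ => ⟨x, rfl⟩⟩

theorem vanishes_top_of_mem {p : Ideal Γ(X, W)} {x : Γ(X, W)} (hx : x ∈ p) :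
    Vanishes {z : X | ∀ hz : z ∈ W, p ≤ pr hW hz} x := fun z hz hzZ hzb =>
  (mem_basicOpen hW hz x).mp hzb (hzZ hz hx)

theorem genOn_vanMod (p : Ideal Γ(X, W)) [hp : p.IsPrime] [IsNoetherianRing Γ(X, W)] (hp1 : p.height = 1)
    {U : X.Opens} (hUW : U ≤ W) (hufd : ∀ y ∈ U, UniqueFactorizationMonoid (X.presheaf.stalk y)) :
    GenOn (vanMod {z : X | ∀ hz : z ∈ W, p ≤ pr hW hz}) U := by
  classical
  intro y hy
  haveI := ufm_localization hW (hUW hy) (hufd y hy)
  obtain ⟨π, g, hπp, hπ0, hg, hdiv⟩ := exists_colon p (pr hW (hUW hy)) hp1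
  let O : X.Opens := X.basicOpen g ⊓ U
  have hOW : O ≤ W := inf_le_right.trans hUW
  obtain ⟨e, he⟩ := exists_vval ((vanishes_top_of_mem hW hπp).res hOW)
  refine ⟨O, ⟨(mem_basicOpen hW (hUW hy) g).mpr hg, hy⟩, inf_le_right, e, fun V hV => ⟨?_, ?_⟩⟩
  · intro a b hab
    refine (sec_eq_iff hW (hV.trans hOW) a b).mpr fun hgV => ?_
    have h1 := congrArg (fun t => sec hW hgV (vval t)) hab
    simp only [vval_smul, vval_rs, he, map_mul, sec_res, rO_rO, sec_top] at h1
    exact mul_right_cancel₀ (fun h0 => hπ0 (IsFractionRing.injective Γ(X, W) (FractionRing Γ(X, W))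
      (h0.trans (map_zero _).symm))) h1
  · intro t
    let K := FractionRing Γ(X, W)
    have hπK : algebraMap Γ(X, W) K π ≠ 0 := fun h0 =>
      hπ0 (IsFractionRing.injective Γ(X, W) K (h0.trans (map_zero _).symm))
    let z : K := if h : gen hW ∈ V then sec hW h (vval t) / algebraMap Γ(X, W) K π else 0
    have hall : ∀ v (hv : v ∈ V), InLoc (pr hW (hV.trans hOW hv)) z := by
      intro v hv
      have hvW : v ∈ W := hV.trans hOW hv
      have hgv : g ∉ pr hW hvW := (mem_basicOpen hW hvW g).mp (hV hv).1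
      obtain ⟨r, s, hs, e1, -⟩ := exists_fraction_vanishes hW hvW hv (vval t)
      obtain ⟨x, hxv, hxr⟩ : ∃ x, x ∉ pr hW hvW ∧ x * r ∈ p := by
        by_cases hpv : p ≤ pr hW hvW
        · refine ⟨1, (pr hW hvW).one_notMem, ?_⟩
          rw [one_mul]
          have hpV : pt hW p ∈ V := mem_of_le hW hvW hv hpv
          obtain ⟨r', s', hs', e2, hiff⟩ := exists_fraction_vanishes hW (pt_mem hW p) hpV (vval t)
          have hr' : r' ∈ p := by
            have := hiff.mp (vval_vanishes t _ hpV fun hz => by rw [pr_pt])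
            rwa [pr_pt] at this
          rw [pr_pt] at hs'
          have h3 : r * s' = r' * s := IsFractionRing.injective Γ(X, W) K (by
            rw [map_mul, map_mul]; linear_combination algebraMap _ K s * e2 - algebraMap _ K s' * e1)
          exact (hp.mem_or_mem (h3 ▸ Ideal.mul_mem_right _ _ hr')).resolve_right hs'
        · obtain ⟨x, hxp, hxv⟩ := SetLike.not_le_iff_exists.mp hpv
          exact ⟨x, hxv, Ideal.mul_mem_right _ _ hxp⟩
      obtain ⟨c, hc⟩ := hdiv _ hxr
      refine ⟨c, g * x * s, fun h => ?_, ?_⟩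
      · rcases (inferInstance : (pr hW hvW).IsPrime).mem_or_mem h with h | h
        · exact ((inferInstance : (pr hW hvW).IsPrime).mem_or_mem h).elim hgv hxv
        · exact hs h
      · have hc' := congrArg (algebraMap Γ(X, W) K) hc
        simp only [map_mul] at hc'
        simp only [z, dif_pos (gen_mem_of_mem hW hvW hv), map_mul]
        rw [div_mul_eq_mul_div, div_eq_iff hπK]
        linear_combination algebraMap _ K g * algebraMap _ K x * e1 + hc'
    obtain ⟨a, ha⟩ := exists_sec hW (hV.trans hOW) z hall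
    refine ⟨a, vval_injective V ((sec_eq_iff hW (hV.trans hOW) _ _).mpr fun hgV => ?_)⟩
    simp only [vval_smul, vval_rs, he, map_mul, sec_res, rO_rO, sec_top, ha hgV, z, dif_pos hgV]
    exact div_mul_cancel₀ _ hπK

end Groth.L14.ParaF
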